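import Groth.Agent.H27HilbAff.Chart
import Groth.Agent.H27HilbOps.Represent
import Mathlib

/-! # The Hilbert scheme of points of a scheme locally of finite type is locally of finite type -/

set_option autoImplicit false
set_option linter.style.haveILetI false
set_option backward.isDefEq.respectTransparency false
set_option backward.isDefEq.respectTransparency.types false

universe u

open CategoryTheory CategoryTheory.Limits AlgebraicGeometry TensorProduct CommRingCat

namespace Groth.Agent.H27Fogarty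

open H27HilbOps H27HilbAff

/-- A representable open subfunctor is an open subscheme of the representing scheme. -/
theorem exists_openImmersion_of_criterion {X S : Scheme.{u}} {f : X ⟶ S} {d : ℕ} {H : Over S}
    {Z : HilbD.Obj f d H} (hZ : HilbD.IsUniversal f d H Z) (O : H.left.Opens) (C : Over S)
    (ZC : HilbD.Obj f d C)
    (hext : ∀ {T : Over S} (h h' : T ⟶ C), HilbD.pull f h ZC.1 = HilbD.pull f h' ZC.1 → h = h')
    (hcrit : ∀ {T : Over S} (p : T ⟶ H),
      (∃ h : T ⟶ C, pullObj f h ZC = pullObj f p Z) ↔ Set.range p.left ⊆ (O : Set H.left)) :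
    ∃ ι : C.left ⟶ H.left, IsOpenImmersion ι ∧ Set.range ι = O ∧ ι ≫ H.hom = C.hom := by
  let OO : Over S := Over.mk (O.ι ≫ H.hom)
  let p : OO ⟶ H := Over.homMk O.ι rfl
  obtain ⟨h, hh⟩ := (hcrit p).2 (Scheme.Opens.range_ι O).subset
  obtain ⟨c, hc, -⟩ := hZ C ZC
  have hcO : Set.range c.left ⊆ (O : Set H.left) :=
    (hcrit c).1 ⟨𝟙 C, Subtype.ext ((pull_id f ZC.1).trans hc.symm)⟩
  let l : C ⟶ OO := Over.homMk (IsOpenImmersion.lift O.ι c.left (hcO.trans (Scheme.Opens.range_ι O).superset))
    ((IsOpenImmersion.lift_fac_assoc _ _ _ _).trans (Over.w c))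
  have hlp : l ≫ p = c := Over.OverMorphism.ext (IsOpenImmersion.lift_fac _ _ _)
  have hh' : HilbD.pull f h ZC.1 = HilbD.pull f p Z.1 := congrArg Subtype.val hh
  have hhc : h ≫ c = p := (hZ OO (pullObj f p Z)).unique (by
    show HilbD.pull f _ _ = _
    rw [pull_comp, hc, hh']; rfl) rfl
  have h1 : h.left ≫ l.left = 𝟙 O.toScheme := (cancel_mono O.ι).1 (by
    rw [Category.assoc]
    erw [IsOpenImmersion.lift_fac]
    exact (congrArg CommaMorphism.left hhc).trans (Category.id_comp _).symm)
  have h2 : l ≫ h = 𝟙 C := hext _ _ (by rw [pull_comp, hh', ← pull_comp, hlp, hc, pull_id])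
  haveI : IsIso l.left := ⟨h.left, congrArg CommaMorphism.left h2, h1⟩
  refine ⟨c.left, ?_, ?_, Over.w c⟩
  · rw [← hlp]; exact inferInstanceAs (IsOpenImmersion (l.left ≫ O.ι))
  · rw [← hlp]
    show Set.range (O.ι ∘ l.left) = _
    have hs : Function.Surjective l.left := (Scheme.homeoOfIso (asIso l.left)).surjective
    rw [hs.range_comp]
    exact Scheme.Opens.range_ι O

section affine

variable (R : Type u) [CommRing R] {B : Type u} [CommRing B] [Algebra R B] {d : ℕ} (b : Fin d → B)

theorem finiteType_univRing [Algebra.FiniteType R B] : Algebra.FiniteType R (UnivRing R b) := by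
  classical
  obtain ⟨G, hG⟩ := Algebra.FiniteType.out (R := R) (A := B)
  let gens : Set (UnivRing R b) :=
    Set.range (fun p : ↥G × Fin d => gen R b p.1.1 p.2) ∪
      Set.range (fun p : Fin d × Fin d × Fin d => gen R b (b p.1 * b p.2.1) p.2.2) ∪
      Set.range (gen R b 1)
  let S := Algebra.adjoin R gens
  let B' : Subalgebra R B :=
    { carrier := {x | ∀ i, gen R b x i ∈ S}
      one_mem' := fun i => Algebra.subset_adjoin (Or.inr ⟨i, rfl⟩)
      mul_mem' := fun {x y} hx hy k => by
        show univCoord R b (x * y) k ∈ S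
        rw [univCoord_isMult R b x y k]
        refine Subalgebra.sum_mem _ fun i _ => Subalgebra.sum_mem _ fun j _ =>
          Subalgebra.mul_mem _ (Subalgebra.mul_mem _ (hx i) (hy j)) ?_
        exact Algebra.subset_adjoin (Or.inl (Or.inr ⟨(i, j, k), rfl⟩))
      add_mem' := fun {x y} hx hy k => by
        show univCoord R b (x + y) k ∈ S
        rw [map_add]
        exact Subalgebra.add_mem _ (hx k) (hy k)
      zero_mem' := fun k => by
        show univCoord R b 0 k ∈ S
        rw [map_zero]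
        exact Subalgebra.zero_mem _
      algebraMap_mem' := fun r k => by
        show univCoord R b (algebraMap R B r) k ∈ S
        rw [Algebra.algebraMap_eq_smul_one, map_smul]
        exact Subalgebra.smul_mem _ (Algebra.subset_adjoin (R := R) (s := gens) (Or.inr ⟨k, rfl⟩)) r }
  have hB' : ∀ x : B, x ∈ B' := fun x => by
    refine (Algebra.adjoin_le (S := B') ?_) (hG.ge (Algebra.mem_top (x := x)))
    intro g hg i
    exact Algebra.subset_adjoin (Or.inl (Or.inl ⟨(⟨g, hg⟩, i), rfl⟩))
  refine ⟨Subalgebra.fg_def.2 ⟨gens, ((Set.finite_range _).union (Set.finite_range _)).union (Set.finite_range _),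
    eq_top_iff.2 fun z _ => ?_⟩⟩
  obtain ⟨P, rfl⟩ := Ideal.Quotient.mk_surjective z
  induction P using MvPolynomial.induction_on with
  | C r => exact Subalgebra.algebraMap_mem S r
  | add p q hp hq => rw [map_add]; exact Subalgebra.add_mem _ (hp trivial) (hq trivial)
  | mul_X p v hp => rw [map_mul]; exact Subalgebra.mul_mem _ (hp trivial) (hB' v.1 v.2)

end affine

variable {k : Type u} [Field k]

local notation "σ₀" => 𝟙 (Spec (CommRingCat.of k))

theorem locallyOfFiniteType_affine {B : Type u} [CommRing B] [Algebra k B] [Algebra.FiniteType k B] {d : ℕ}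
    (H : Over (Spec (CommRingCat.of k))) (Z : HilbD.Obj (fB (B := B) σ₀) d H)
    (hZ : HilbD.IsUniversal (fB (B := B) σ₀) d H Z) : LocallyOfFiniteType H.hom := by
  choose ι hι hr hw using fun b : Fin d → B => exists_openImmersion_of_criterion hZ (H27HilbAff.locus σ₀ b Z)
    (chart σ₀ b) (chartObj σ₀ b) (fun h h' e => chart_hom_ext σ₀ b h h' e) (fun p => factors_iff σ₀ b Z p)
  haveI := hι
  let 𝒰 : H.left.OpenCover := Scheme.Cover.mkOfCovers _ _ ι (fun x => ?cov) hι
  case cov =>
    obtain ⟨b, hb⟩ := exists_mem_locus σ₀ Z x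
    obtain ⟨y, hy⟩ := (hr b).superset hb
    exact ⟨b, y, hy⟩
  rw [IsZariskiLocalAtSource.iff_of_openCover (P := @LocallyOfFiniteType) 𝒰]
  intro b
  show LocallyOfFiniteType (ι b ≫ H.hom)
  rw [hw b]
  show LocallyOfFiniteType (Spec.map (ofHom (algebraMap k (UnivRing k b))) ≫ σ₀)
  rw [Category.comp_id, HasRingHomProperty.Spec_iff (P := @LocallyOfFiniteType)]
  exact RingHom.finiteType_algebraMap.2 (finiteType_univRing k b)

theorem locallyOfFiniteType {X : Scheme.{u}} (f : X ⟶ Spec (CommRingCat.of k)) [IsSeparated f]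
    [LocallyOfFiniteType f] {d : ℕ}
    (haff : ∀ x : Fin d → X, ∃ U : X.Opens, IsAffineOpen U ∧ ∀ i, x i ∈ U)
    (H : Over (Spec (CommRingCat.of k))) (Z : HilbD.Obj f d H) (hZ : HilbD.IsUniversal f d H Z) :
    LocallyOfFiniteType H.hom := by
  have hB : ∀ U : X.affineOpens, ∃ alg : Algebra k Γ(X, U.1), letI := alg
      U.2.fromSpec ≫ f = fB (B := Γ(X, U.1)) σ₀ ∧ Algebra.FiniteType k Γ(X, U.1) := by
    intro U
    let φ := Spec.preimage (U.2.fromSpec ≫ f)
    letI := φ.hom.toAlgebra
    have e : U.2.fromSpec ≫ f = fB (B := Γ(X, U.1)) σ₀ := by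
      show _ = Spec.map φ ≫ 𝟙 _
      rw [Category.comp_id, Spec.map_preimage]
    refine ⟨φ.hom.toAlgebra, e, ?_⟩
    rw [← RingHom.finiteType_algebraMap]
    show φ.hom.FiniteType
    rw [← HasRingHomProperty.Spec_iff (P := @LocallyOfFiniteType), Spec.map_preimage]
    infer_instance
  choose alg hw hft using hB
  letI := alg
  haveI := hft
  choose HB ZB hu using fun U : X.affineOpens => H27HilbAff.representable (R := k) (B := Γ(X, U.1)) σ₀ (d := d)
  let g := fun U : X.affineOpens => fB (B := Γ(X, U.1)) σ₀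
  let j := fun U : X.affineOpens => U.2.fromSpec
  have hw' : ∀ U, j U ≫ f = g U ≫ σ₀ := fun U => by rw [Category.comp_id]; exact hw U
  choose ι hι hr hwι using fun U : X.affineOpens => exists_openImmersion_of_criterion hZ
    (openLocus f j (fun _ => σ₀) U Z) (overS σ₀ (HB U)) (pushOObj f (g U) (j U) σ₀ (hw' U) (ZB U))
    (fun h h' e => open_hom_ext f g j (fun _ => σ₀) hw' HB ZB hu U h h' (Subtype.ext e))
    (fun p => open_factors_iff f g j (fun _ => σ₀) hw' HB ZB hu U Z p)
  haveI := hι
  let 𝒰 : H.left.OpenCover := Scheme.Cover.mkOfCovers _ _ ι (fun x => ?cov) hι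
  case cov =>
    classical
    let E : Set X := (Z.1.subschemeι ≫ pullback.fst f H.hom) '' ((Z.1.subschemeι ≫ PicF.XTproj f H) ⁻¹' {x})
    have hcard : E.encard ≤ d := (Set.encard_image_le _ _).trans (encard_fibre_le _ Z.2 x)
    have hfin : E.Finite := Set.finite_of_encard_le_coe hcard
    obtain ⟨U, hU, hEU⟩ : ∃ U : X.Opens, IsAffineOpen U ∧ E ⊆ U := by
      rcases E.eq_empty_or_nonempty with hE | ⟨e₀, he₀⟩
      · exact ⟨⊥, isAffineOpen_bot X, by simp [hE]⟩
      haveI := hfin.fintype
      have hc : Fintype.card E ≤ Fintype.card (Fin d) := by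
        rw [Fintype.card_fin, ← Nat.cast_le (α := ℕ∞), ← Set.toFinset_card, ← Set.encard_eq_coe_toFinset_card]
        exact hcard
      obtain ⟨φ⟩ := Function.Embedding.nonempty_of_card_le hc
      haveI : Nonempty E := ⟨⟨e₀, he₀⟩⟩
      obtain ⟨U₀, hU₀, hxU⟩ := haff fun i => (Function.invFun φ i).1
      refine ⟨U₀, hU₀, fun e he => ?_⟩
      have := hxU (φ ⟨e, he⟩)
      rwa [Function.leftInverse_invFun φ.injective] at this
    obtain ⟨y, hy⟩ : x ∈ Set.range (ι ⟨U, hU⟩) := by
      refine (hr ⟨U, hU⟩).superset ⟨⟨H.hom x, rfl⟩, ?_⟩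
      rintro ⟨z, hz, hzx⟩
      exact hz (hU.range_fromSpec.superset (hEU ⟨z, hzx, rfl⟩))
    exact ⟨⟨U, hU⟩, y, hy⟩
  rw [IsZariskiLocalAtSource.iff_of_openCover (P := @LocallyOfFiniteType) 𝒰]
  intro U
  show LocallyOfFiniteType (ι U ≫ H.hom)
  haveI := locallyOfFiniteType_affine (HB U) (ZB U) (hu U)
  rw [hwι U]
  show LocallyOfFiniteType ((HB U).hom ≫ σ₀)
  infer_instance

end Groth.Agent.H27Fogarty

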