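import Groth.Agent.H27Fogarty.Hyper
import Groth.Agent.H27HilbAff.Chart
import Groth.Agent.H27HilbOps.Union
import Groth.Agent.H27HilbOps.Represent
import Mathlib

/-! # Families of points inside an affine open -/

set_option autoImplicit false
set_option linter.style.haveILetI false
set_option backward.isDefEq.respectTransparency false
set_option backward.isDefEq.respectTransparency.types false

universe u

open CategoryTheory CategoryTheory.Limits AlgebraicGeometry TensorProduct CommRingCat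

namespace Groth.Agent.H27Fogarty

open H27HilbOps H27HilbAff

variable {k : Type u} [Field k] {B : Type u} [CommRing B] [Algebra k B]

local notation "σ₀" => 𝟙 (Spec (CommRingCat.of k))

section

variable {A : Type u} [CommRing A] [Algebra k A]

lemma famOf_inf (K L : Ideal (A ⊗[k] B)) : famOf (R := k) σ₀ (K ⊓ L) = famOf σ₀ K ⊓ famOf σ₀ L := by
  refine eq_of_forall_le_iff fun J => ?_
  obtain ⟨M, rfl⟩ := exists_famOf σ₀ J
  rw [le_inf_iff, famOf_le_famOf_iff, famOf_le_famOf_iff, famOf_le_famOf_iff, le_inf_iff]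

lemma deg_famOf [IsNoetherianRing A] (K : Ideal (A ⊗[k] B)) {d : ℕ}
    (h : Module.Finite A ((A ⊗[k] B) ⧸ K) ∧ Module.Free A ((A ⊗[k] B) ⧸ K) ∧
      Module.finrank A ((A ⊗[k] B) ⧸ K) = d) :
    Mor2.IsFinLocFreeOfDeg d ((famOf (R := k) σ₀ K).subschemeι ≫ PicF.XTproj (fB σ₀) (TA σ₀ A)) := by
  obtain ⟨h1, h2, h3⟩ := h
  haveI : Algebra.FinitePresentation A ((A ⊗[k] B) ⧸ K) :=
    Algebra.FinitePresentation.of_finiteType.mp inferInstance
  exact (famOf_proj_iff σ₀ d K).mpr ⟨h1, inferInstance, inferInstance, fun p => by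
    haveI : Nontrivial A := p.nontrivial
    rw [Module.rankAtStalk_eq_finrank_of_free]; exact h3⟩

lemma of_deg_famOf {K' : Type u} [Field K'] [Algebra k K'] (K : Ideal (K' ⊗[k] B)) {d : ℕ}
    (h : Mor2.IsFinLocFreeOfDeg d ((famOf (R := k) σ₀ K).subschemeι ≫ PicF.XTproj (fB σ₀) (TA σ₀ K'))) :
    Module.Finite K' ((K' ⊗[k] B) ⧸ K) ∧ Module.finrank K' ((K' ⊗[k] B) ⧸ K) = d := by
  obtain ⟨f1, f2, f3, f4⟩ := (famOf_proj_iff σ₀ d K).mp h
  refine ⟨f1, ?_⟩
  rw [← f4 (IsLocalRing.closedPoint K'), Module.rankAtStalk_eq_finrank_of_free]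
  rfl

lemma famOf_graph (x : B →ₐ[k] A) (hx : Spec.map (ofHom x.toRingHom) ≫ fB σ₀ = (TA σ₀ A).hom) :
    HilbD.secGraph (fB σ₀) (TA σ₀ A) (Spec.map (ofHom x.toRingHom)) hx =
      famOf σ₀ (RingHom.ker (evPt x)) := by
  have hg : H27HilbOne.graph (fB σ₀) (TA σ₀ A) (Spec.map (ofHom x.toRingHom)) hx =
      Spec.map (ofHom (evPt x).toRingHom) ≫ incl B σ₀ A := by
    apply pullback.hom_ext
    · rw [H27HilbOne.graph_fst, Category.assoc, incl_fst, ← Spec.map_comp]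
      congr 1
      ext b
      show x b = evPt x ((1 : A) ⊗ₜ[k] b)
      simp
    · rw [H27HilbOne.graph_snd, Category.assoc, incl_snd, ← Spec.map_comp]
      refine (Spec.map_id _).symm.trans (congrArg Spec.map (CommRingCat.hom_ext (RingHom.ext fun a => ?_)))
      show a = evPt x (a ⊗ₜ[k] (1 : B))
      simp
  have hs : Function.Surjective (evPt x).toRingHom := fun a => ⟨a ⊗ₜ[k] (1 : B), by simp⟩
  rw [H27HilbOne.secGraph_eq, hg]
  refine le_antisymm ?_ ?_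
  · haveI : IsClosedImmersion (Spec.map (ofHom (evPt x).toRingHom)) := IsClosedImmersion.spec_of_surjective _ hs
    obtain ⟨M, hM⟩ := exists_famOf σ₀ (Spec.map (ofHom (evPt x).toRingHom) ≫ incl B σ₀ A).ker
    rw [← hM, famOf_le_famOf_iff]
    exact (famOf_le_iff σ₀ M (evPt x).toRingHom).1 hM.le
  · exact (famOf_le_iff σ₀ _ _).2 le_rfl

end

variable (k) in
/-- An affine test scheme over `k`. -/
noncomputable abbrev TP (A : Type u) [CommRing A] [Algebra k A] : Over (Spec (CommRingCat.of k)) :=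
  overS σ₀ (TA σ₀ A)

/-- A morphism of test schemes. -/
noncomputable abbrev TPmap {A A' : Type u} [CommRing A] [Algebra k A] [CommRing A'] [Algebra k A']
    (ψ : A →ₐ[k] A') : TP k A' ⟶ TP k A := overSMap σ₀ (TAmap σ₀ ψ)

variable {X : Scheme.{u}} (f : X ⟶ Spec (CommRingCat.of k)) (j : Spec (CommRingCat.of B) ⟶ X)
  [IsOpenImmersion j] (hw : j ≫ f = fB (R := k) (B := B) (𝟙 (Spec (CommRingCat.of k))) ≫ 𝟙 (Spec (CommRingCat.of k)))

variable {A : Type u} [CommRing A] [Algebra k A]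

/-- The family in `X` of an ideal of `A ⊗ B`. -/
noncomputable def fam (K : Ideal (A ⊗[k] B)) : (PicF.XT f (TP k A)).IdealSheafData :=
  pushO f (fB σ₀) j σ₀ hw (TA σ₀ A) (famOf σ₀ K)

lemma fam_inf (K L : Ideal (A ⊗[k] B)) : fam f j hw (K ⊓ L) = fam f j hw K ⊓ fam f j hw L := by
  rw [fam, famOf_inf]
  exact Scheme.IdealSheafData.map_inf _ _ _

/-- A point of the affine open as a point of `X`. -/
noncomputable abbrev ptX (x : B →ₐ[k] A) : (TP k A).left ⟶ X := Spec.map (ofHom x.toRingHom) ≫ j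

include hw in
lemma ptX_w (x : B →ₐ[k] A) : ptX j x ≫ f = (TP k A).hom := by
  rw [Category.assoc, hw]
  show _ = (Spec.map (ofHom (algebraMap k A)) ≫ σ₀) ≫ σ₀
  simp only [fB, Category.comp_id, ← Spec.map_comp]
  congr 1
  ext r
  exact x.commutes r

lemma fam_graph (x : B →ₐ[k] A) :
    fam f j hw (RingHom.ker (evPt x)) = HilbD.secGraph f (TP k A) (ptX j x) (ptX_w f j hw x) := by
  have hx : Spec.map (ofHom x.toRingHom) ≫ fB σ₀ = (TA σ₀ A).hom := by
    show _ = Spec.map (ofHom (algebraMap k A)) ≫ σ₀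
    simp only [fB, Category.comp_id, ← Spec.map_comp]
    congr 1
    ext r
    exact x.commutes r
  rw [fam, ← famOf_graph x hx, H27HilbOne.secGraph_eq, H27HilbOne.secGraph_eq, pushO]
  have e : H27HilbOne.graph f (TP k A) (ptX j x) (ptX_w f j hw x) =
      H27HilbOne.graph (fB σ₀) (TA σ₀ A) (Spec.map (ofHom x.toRingHom)) hx ≫ XOincl f (fB σ₀) j σ₀ hw (TA σ₀ A) := by
    apply pullback.hom_ext
    · rw [H27HilbOne.graph_fst, Category.assoc, XOincl_fst, H27HilbOne.graph_fst_assoc]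
    · rw [H27HilbOne.graph_snd, Category.assoc, XOincl_snd, H27HilbOne.graph_snd]
      rfl
  rw [e]
  let g := H27HilbOne.graph (fB σ₀) (TA σ₀ A) (Spec.map (ofHom x.toRingHom)) hx
  show (g.imageι ≫ _).ker = (g ≫ _).ker
  conv_rhs => rw [← g.toImage_imageι, Category.assoc, Scheme.Hom.ker_comp_of_isIso]

variable [IsSeparated f]

/-- The family as a point of the Hilbert functor. -/
noncomputable def famObj {d : ℕ} [IsNoetherianRing A] (K : Ideal (A ⊗[k] B))
    (h : Module.Finite A ((A ⊗[k] B) ⧸ K) ∧ Module.Free A ((A ⊗[k] B) ⧸ K) ∧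
      Module.finrank A ((A ⊗[k] B) ⧸ K) = d) : HilbD.Obj f d (TP k A) :=
  pushOObj f (fB σ₀) j σ₀ hw ⟨famOf σ₀ K, deg_famOf K h⟩

lemma famObj_val {d : ℕ} [IsNoetherianRing A] (K : Ideal (A ⊗[k] B))
    (h : Module.Finite A ((A ⊗[k] B) ⧸ K) ∧ Module.Free A ((A ⊗[k] B) ⧸ K) ∧
      Module.finrank A ((A ⊗[k] B) ⧸ K) = d) : (famObj f j hw K h).1 = fam f j hw K := rfl

lemma pull_fam {d : ℕ} [IsNoetherianRing A] (K : Ideal (A ⊗[k] B))
    (h : Module.Finite A ((A ⊗[k] B) ⧸ K) ∧ Module.Free A ((A ⊗[k] B) ⧸ K) ∧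
      Module.finrank A ((A ⊗[k] B) ⧸ K) = d) {A' : Type u} [CommRing A'] [Algebra k A'] (ψ : A →ₐ[k] A') :
    HilbD.pull f (TPmap ψ) (fam f j hw K) = fam f j hw (K.map (bc ψ)) := by
  rw [fam, pull_pushO f (fB σ₀) j σ₀ hw (TAmap σ₀ ψ) (d := d) ⟨famOf σ₀ K, deg_famOf K h⟩, pull_famOf]
  rfl

/-- The specialisation to a field of a family has the same rank. -/
lemma map_rank {d : ℕ} [IsNoetherianRing A] (K : Ideal (A ⊗[k] B))
    (h : Module.Finite A ((A ⊗[k] B) ⧸ K) ∧ Module.Free A ((A ⊗[k] B) ⧸ K) ∧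
      Module.finrank A ((A ⊗[k] B) ⧸ K) = d) {K' : Type u} [Field K'] [Algebra k K'] (ψ : A →ₐ[k] K') :
    Module.Finite K' ((K' ⊗[k] B) ⧸ K.map (bc ψ)) ∧ Module.Free K' ((K' ⊗[k] B) ⧸ K.map (bc ψ)) ∧
      Module.finrank K' ((K' ⊗[k] B) ⧸ K.map (bc ψ)) = d := by
  have hd := isFinLocFreeOfDeg_pull (fB σ₀) (TAmap σ₀ ψ) _ (deg_famOf K h)
  rw [pull_famOf] at hd
  obtain ⟨f1, f2⟩ := of_deg_famOf _ hd
  exact ⟨f1, inferInstance, f2⟩

/-- A field valued family with support in the affine open comes from an ideal. -/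
lemma exists_eq_fam {d : ℕ} {K' : Type u} [Field K'] [Algebra k K'] (Z : HilbD.Obj f d (TP k K'))
    (hs : ∀ z : Z.1.subscheme, (Z.1.subschemeι ≫ pullback.fst f (TP k K').hom) z ∈ Set.range j) :
    ∃ (K : Ideal (K' ⊗[k] B)) (h : Module.Finite K' ((K' ⊗[k] B) ⧸ K) ∧ Module.Free K' ((K' ⊗[k] B) ⧸ K) ∧
      Module.finrank K' ((K' ⊗[k] B) ⧸ K) = d), fam f j hw K = Z.1 := by
  obtain ⟨Z', hZ'⟩ := exists_eq_pushO f (fB σ₀) j σ₀ hw Z (by
    rintro _ ⟨z, rfl⟩
    rw [range_XOincl]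
    exact hs z)
  obtain ⟨K, hK⟩ := exists_famOf σ₀ Z'.1
  obtain ⟨f1, f2⟩ := of_deg_famOf (d := d) K (hK ▸ Z'.2)
  exact ⟨K, ⟨f1, inferInstance, f2⟩, by rw [fam, hK, hZ']⟩

end Groth.Agent.H27Fogarty
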