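import Groth.Agent.H27HilbOps.Union
import Mathlib

/-! # Adding a moving point to a family of points -/

set_option autoImplicit false
set_option linter.style.haveILetI false
set_option backward.isDefEq.respectTransparency false
set_option backward.isDefEq.respectTransparency.types false

universe u

open CategoryTheory CategoryTheory.Limits AlgebraicGeometry

namespace Groth.Agent.H27Fogarty

open H27HilbOps

variable {X S : Scheme.{u}} (f : X ⟶ S) {n : ℕ} (H : Over S) (Z : HilbD.Obj f n H)

/-- Pairs of a family and a point outside it. -/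
noncomputable def pairOpen : (PicF.XT f H).Opens :=
  ⟨(Set.range Z.1.subschemeι)ᶜ, Z.1.subschemeι.isClosedEmbedding.isClosed_range.isOpen_compl⟩

/-- The base of the family with one more point. -/
noncomputable abbrev pairs : Over S := Over.mk ((pairOpen f H Z).ι ≫ pullback.snd f H.hom ≫ H.hom)

/-- Forget the point. -/
noncomputable abbrev forgetPt : pairs f H Z ⟶ H := Over.homMk ((pairOpen f H Z).ι ≫ pullback.snd f H.hom) (Category.assoc _ _ _)

/-- The point. -/
noncomputable abbrev thePt : (pairs f H Z).left ⟶ X := (pairOpen f H Z).ι ≫ pullback.fst f H.hom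

lemma thePt_w : thePt f H Z ≫ f = (pairs f H Z).hom := by
  rw [Category.assoc, pullback.condition]
  rfl

theorem exists_addPt [IsSeparated f] (H' : Over S) (Z' : HilbD.Obj f (n + 1) H')
    (hZ' : HilbD.IsUniversal f (n + 1) H' Z') :
    ∃ Φ : pairs f H Z ⟶ H', HilbD.pull f Φ Z'.1 =
      HilbD.pull f (forgetPt f H Z) Z.1 * HilbD.secGraph f (pairs f H Z) (thePt f H Z) (thePt_w f H Z) := by
  have hd : ∀ a b, (HilbD.pull f (forgetPt f H Z) Z.1).subschemeι a ≠
      (HilbD.secGraph f (pairs f H Z) (thePt f H Z) (thePt_w f H Z)).subschemeι b := by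
    intro a b hab
    obtain ⟨u, hu⟩ := exists_isPullback_pull f (forgetPt f H Z) Z.1
    let γ := H27HilbOne.graph f (pairs f H Z) (thePt f H Z) (thePt_w f H Z)
    obtain ⟨t, rfl⟩ := (Scheme.homeoOfIso (asIso γ.toImage)).surjective b
    have hab' : (HilbD.pull f (forgetPt f H Z) Z.1).subschemeι a = γ t :=
      hab.trans (congr($(γ.toImage_imageι) t))
    have e : γ ≫ PicF.XTmap f (forgetPt f H Z) = (pairOpen f H Z).ι := by
      apply pullback.hom_ext
      · simp [PicF.XTmap, γ]; exact H27HilbOne.graph_fst f (pairs f H Z) _ _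
      · simp [PicF.XTmap, γ]; exact H27HilbOne.graph_snd_assoc f (pairs f H Z) _ _ _
    refine t.2 ⟨u a, ?_⟩
    rw [← Scheme.Hom.comp_apply, hu.w, Scheme.Hom.comp_apply, hab', ← Scheme.Hom.comp_apply, e]
    rfl
  obtain ⟨Φ, hΦ, -⟩ := hZ' (pairs f H Z) ⟨_, Union.isFinLocFreeOfDeg_mul' hd
    (isFinLocFreeOfDeg_pull f (forgetPt f H Z) Z.1 Z.2)
    (H27HilbOne.graphObj f (pairs f H Z) (thePt f H Z) (thePt_w f H Z)).2⟩
  exact ⟨Φ, hΦ⟩

theorem isOpenMap_forgetPt {k : Type u} [Field k] {X : Scheme.{u}} (f : X ⟶ Spec (CommRingCat.of k))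
    [LocallyOfFiniteType f] (H : Over (Spec (CommRingCat.of k))) (Z : HilbD.Obj f n H) :
    IsOpenMap (forgetPt f H Z).left := by
  haveI : LocallyOfFinitePresentation f := inferInstance
  haveI : Flat f := inferInstance
  exact ((pairOpen f H Z).ι ≫ pullback.snd f H.hom).isOpenMap

end Groth.Agent.H27Fogarty
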