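import Groth.Agent.H27Fogarty.Connected
import Groth.Agent.H11Ample.HQProj
import Groth.Agent.H27CurveDiv.Smooth
import Groth.Agent.S1166
import Groth.Agent.S2324
import Mathlib

/-! # Hilbert schemes of points of quasi-projective schemes over a field are connected -/

set_option autoImplicit false
set_option linter.style.haveILetI false
set_option backward.isDefEq.respectTransparency false
set_option backward.isDefEq.respectTransparency.types false

universe u

open CategoryTheory CategoryTheory.Limits AlgebraicGeometry TopologicalSpace

namespace Groth.Agent.H27Fogarty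

variable {k : Type u} [Field k] {X : Scheme.{u}} {f : X ⟶ Spec (CommRingCat.of k)}

/-- Finitely many points of a quasi-projective scheme over a field lie in an affine open. -/
theorem exists_affine_of_isHQuasiProjective [IsSeparated f] (hqp : RelProj.IsHQuasiProjective f) {d : ℕ}
    (x : Fin d → X) : ∃ U : X.Opens, IsAffineOpen U ∧ ∀ i, x i ∈ U := by
  obtain ⟨-, hq, L, hL⟩ := H11Ample.isQuasiProjective_of_isHQuasiProjective hqp
  haveI := hq
  haveI : CompactSpace X := QuasiCompact.compactSpace_of_compactSpace f
  haveI : X.IsSeparated := ⟨by rw [← terminal.comp_from f]; infer_instance⟩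
  obtain ⟨m, s, hs, -, haff⟩ := Groth.Agent.S2324.result X L (H11Ample.isRelAmple_iff_isAmple_of_isAffine.1 hL)
    (Set.range x) (Set.finite_range x) ⊤ (by simp)
  exact ⟨_, haff, fun i => hs ⟨i, rfl⟩⟩

/-- A connected scheme locally of finite type over a field, of positive dimension, has no isolated point. -/
theorem exists_generization [LocallyOfFiniteType f] [ConnectedSpace X] (hdim : 0 < topologicalKrullDim X)
    (x : X) (hx : IsClosed ({x} : Set X)) : ∃ y, y ≠ x ∧ y ⤳ x := by
  haveI : IsLocallyNoetherian X := LocallyOfFiniteType.isLocallyNoetherian f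
  by_contra h
  simp only [not_exists, not_and] at h
  have ho := H17.isOpen_singleton_of_isClosed hx fun y hy => by_contra fun hne => h y hne hy
  have hall : ({x} : Set X) = Set.univ :=
    (isClopen_iff.1 ⟨hx, ho⟩).resolve_left (Set.singleton_ne_empty x)
  have hsub : Subsingleton X := ⟨fun a b => by
    rw [Set.eq_univ_iff_forall] at hall
    rw [Set.mem_singleton_iff.1 (hall a), Set.mem_singleton_iff.1 (hall b)]⟩
  have : topologicalKrullDim X ≤ 0 := by
    haveI : Subsingleton (IrreducibleCloseds X) := ⟨fun a b => by
      ext1
      exact (Set.eq_univ_of_forall fun z => by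
          obtain ⟨w, hw⟩ := a.2.1; rwa [Subsingleton.elim z w]).trans
        (Set.eq_univ_of_forall fun z => by
          obtain ⟨w, hw⟩ := b.2.1; rwa [Subsingleton.elim z w]).symm⟩
    exact Order.krullDim_nonpos_of_subsingleton
  exact absurd hdim this.not_gt

/-- `Hilb^n` of a connected quasi-projective scheme of positive dimension is connected. -/
theorem connectedSpace_hilbert [IsAlgClosed k] [IsSeparated f] [LocallyOfFiniteType f] [ConnectedSpace X]
    (hqp : RelProj.IsHQuasiProjective f) (hdim : 0 < topologicalKrullDim X)
    (n : ℕ) (H : Over (Spec (CommRingCat.of k))) (Z : HilbD.Obj f n H) (hZ : HilbD.IsUniversal f n H Z) :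
    ConnectedSpace H.left := by
  induction n generalizing H with
  | zero =>
    haveI := H27CurveDiv.isIso_hom_of_deg_zero f H Z hZ
    haveI : Unique (Spec (CommRingCat.of k)) := inferInstanceAs (Unique (PrimeSpectrum k))
    let e := Scheme.homeoOfIso (asIso H.hom)
    exact e.symm.surjective.connectedSpace e.symm.continuous
  | succ n ih =>
    have haff : ∀ x : Fin (n + 1) → X, ∃ U : X.Opens, IsAffineOpen U ∧ ∀ i, x i ∈ U :=
      fun x => exists_affine_of_isHQuasiProjective hqp x
    obtain ⟨H₀, Z₀, hZ₀⟩ : HilbD.Representable f n :=
      Groth.Agent.S1166.result f n fun _ x _ => exists_affine_of_isHQuasiProjective hqp x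
    haveI := ih H₀ Z₀ hZ₀
    exact connectedSpace_succ f (exists_generization (f := f) hdim) haff Z₀ Z hZ hZ₀

end Groth.Agent.H27Fogarty
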