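import Groth.Agent.H27Fogarty.Limit
import Groth.Agent.H27Fogarty.FiniteType
import Groth.Agent.H17.PointLocal
import Mathlib

/-! # Connectedness of the Hilbert schemes of points, inductive step -/

set_option autoImplicit false
set_option linter.style.haveILetI false
set_option backward.isDefEq.respectTransparency false
set_option backward.isDefEq.respectTransparency.types false

universe u

open CategoryTheory CategoryTheory.Limits AlgebraicGeometry TensorProduct CommRingCat TopologicalSpace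

namespace Groth.Agent.H27Fogarty

open H27HilbOps H27HilbAff

/-- A function constant along specialisations is locally constant. -/
theorem isLocallyConstant_of_specializes {X : Scheme.{u}} [IsLocallyNoetherian X] {α : Type*} (g : X → α)
    (hg : ∀ a b : X, a ⤳ b → g a = g b) : IsLocallyConstant g := by
  rw [IsLocallyConstant.iff_exists_open]
  intro x
  obtain ⟨W, hW, hxW, -⟩ := exists_isAffineOpen_mem_and_subset (x := x) (U := (⊤ : X.Opens)) trivial
  obtain ⟨U, -, hxU, -, hU⟩ := H17.exists_affine_nhd_forall_generic_specializes x W hxW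
    (H17.finite_genericPoints_inter_affine W hW)
  refine ⟨U, U.isOpen, hxU, fun z hz => ?_⟩
  obtain ⟨η, hη, hηz⟩ := H17.exists_genericPoint_specializes z
  rw [← hg η z hηz, hg η x (hU z hz η hη hηz)]

lemma exists_closed_specializes {X : Scheme.{u}} [JacobsonSpace X] (x : X) :
    ∃ p : X, IsClosed ({p} : Set X) ∧ x ⤳ p := by
  obtain ⟨p, hp, hpc⟩ := nonempty_inter_closedPoints (Z := closure ({x} : Set X))
    ⟨x, subset_closure rfl⟩ isClosed_closure.isLocallyClosed
  exact ⟨p, hpc, specializes_iff_mem_closure.2 hp⟩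

variable {k : Type u} [Field k] {X : Scheme.{u}} (f : X ⟶ Spec (CommRingCat.of k))

/-- An affine chart through finitely many points. -/
theorem exists_chart [LocallyOfFiniteType f] {m : ℕ}
    (haff : ∀ x : Fin m → X, ∃ U : X.Opens, IsAffineOpen U ∧ ∀ i, x i ∈ U) {E : Set X} (hE : E.encard ≤ m) :
    ∃ (B : Type u) (_ : CommRing B) (_ : Algebra k B) (_ : Algebra.FiniteType k B)
      (j : Spec (CommRingCat.of B) ⟶ X) (_ : IsOpenImmersion j),
      j ≫ f = fB (R := k) (B := B) (𝟙 (Spec (CommRingCat.of k))) ≫ 𝟙 (Spec (CommRingCat.of k)) ∧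
        E ⊆ Set.range j := by
  classical
  have hfin : E.Finite := Set.finite_of_encard_le_coe hE
  obtain ⟨U, hU, hEU⟩ : ∃ U : X.Opens, IsAffineOpen U ∧ E ⊆ U := by
    rcases E.eq_empty_or_nonempty with hE' | ⟨e₀, he₀⟩
    · exact ⟨⊥, isAffineOpen_bot X, by simp [hE']⟩
    haveI := hfin.fintype
    have hc : Fintype.card E ≤ Fintype.card (Fin m) := by
      rw [Fintype.card_fin, ← Nat.cast_le (α := ℕ∞), ← Set.toFinset_card, ← Set.encard_eq_coe_toFinset_card]
      exact hE
    obtain ⟨φ⟩ := Function.Embedding.nonempty_of_card_le hc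
    haveI : Nonempty E := ⟨⟨e₀, he₀⟩⟩
    obtain ⟨U₀, hU₀, hxU⟩ := haff fun i => (Function.invFun φ i).1
    refine ⟨U₀, hU₀, fun e he => ?_⟩
    have := hxU (φ ⟨e, he⟩)
    rwa [Function.leftInverse_invFun φ.injective] at this
  let φ := Spec.preimage (hU.fromSpec ≫ f)
  letI := φ.hom.toAlgebra
  have e : hU.fromSpec ≫ f = fB (R := k) (B := Γ(X, U)) (𝟙 _) ≫ 𝟙 _ := by
    show _ = (Spec.map φ ≫ 𝟙 _) ≫ 𝟙 _
    rw [Category.comp_id, Category.comp_id, Spec.map_preimage]
  refine ⟨Γ(X, U), inferInstance, φ.hom.toAlgebra, ?_, hU.fromSpec, inferInstance, e,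
    hEU.trans hU.range_fromSpec.superset⟩
  rw [← RingHom.finiteType_algebraMap]
  show φ.hom.FiniteType
  rw [← HasRingHomProperty.Spec_iff (P := @LocallyOfFiniteType), Spec.map_preimage]
  infer_instance

/-- The image in `X` of a family over a rational point is small. -/
lemma encard_support {n : ℕ} (Z : HilbD.Obj f n (TP k k)) :
    (Set.range (Z.1.subschemeι ≫ pullback.fst f (TP k k).hom)).encard ≤ n := by
  haveI : Subsingleton (TP k k).left := inferInstanceAs (Subsingleton (PrimeSpectrum k))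
  rw [← Set.image_univ]
  refine (Set.encard_image_le _ _).trans (le_of_eq_of_le ?_ (encard_fibre_le _ Z.2 (IsLocalRing.closedPoint k)))
  refine congrArg Set.encard (Set.eq_univ_of_forall fun z => ?_).symm
  exact @Subsingleton.elim (TP k k).left _ ((Z.1.subschemeι ≫ PicF.XTproj f (TP k k)) z) (IsLocalRing.closedPoint k)

lemma exists_point [IsAlgClosed k] {T : Over (Spec (CommRingCat.of k))} [LocallyOfFiniteType T.hom] {h : T.left}
    (hh : IsClosed ({h} : Set T.left)) : ∃ a : TP k k ⟶ T, a.left (IsLocalRing.closedPoint k) = h :=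
  ⟨Over.homMk (pointOfClosedPoint T.hom h hh) ((pointOfClosedPoint_comp T.hom h hh).trans TP_hom_self.symm),
    pointOfClosedPoint_apply T.hom h hh _⟩

lemma exists_slice_eq {H : Over (Spec (CommRingCat.of k))} (a : TP k k ⟶ H) (u : PicF.XT f H)
    (hu : pullback.snd f H.hom u = a.left (IsLocalRing.closedPoint k)) : ∃ y : X, slice f a y = u := by
  have sq := H27HilbOps.isPullback_XTmap f a
  obtain ⟨z, hz, -⟩ := Scheme.Pullback.exists_preimage_pullback (f := pullback.snd f H.hom) (g := a.left) u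
    (IsLocalRing.closedPoint k) hu
  refine ⟨pullback.fst f (TP k k).hom (sq.isoPullback.inv z), ?_⟩
  have e : pullback.fst f (TP k k).hom ≫ slice f a = PicF.XTmap f a := by
    apply pullback.hom_ext
    · simp [slice, PicF.XTmap]
    · simp only [slice, PicF.XTmap, Category.assoc, pullback.lift_snd]
      rw [pullback.condition_assoc]
      exact congrArg (pullback.snd f _ ≫ ·) ((congrArg (· ≫ a.left) TP_hom_self).trans (Category.id_comp _))
  rw [← Scheme.Hom.comp_apply, e, ← hz, ← Scheme.Hom.comp_apply, sq.isoPullback_inv_fst]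

/-- The point of a closed point of a chart. -/
lemma exists_pt [IsAlgClosed k] {B : Type u} [CommRing B] [Algebra k B] [Algebra.FiniteType k B]
    (m : PrimeSpectrum B) (hm : IsClosed ({m} : Set (PrimeSpectrum B))) :
    ∃ pt : B →ₐ[k] k, RingHom.ker pt = m.asIdeal := by
  haveI := (PrimeSpectrum.isClosed_singleton_iff_isMaximal m).1 hm
  letI := Ideal.Quotient.field m.asIdeal
  haveI : Module.Finite k (B ⧸ m.asIdeal) := finite_of_finite_type_of_isJacobsonRing k (B ⧸ m.asIdeal)
  haveI : Algebra.IsIntegral k (B ⧸ m.asIdeal) := Algebra.IsIntegral.of_finite k _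
  let e := AlgEquiv.ofBijective (Algebra.ofId k (B ⧸ m.asIdeal)) IsAlgClosed.algebraMap_bijective_of_isIntegral
  refine ⟨e.symm.toAlgHom.comp (Ideal.Quotient.mkₐ k m.asIdeal), ?_⟩
  ext b
  rw [RingHom.mem_ker]
  show e.symm (Ideal.Quotient.mk m.asIdeal b) = 0 ↔ _
  rw [map_eq_zero_iff _ e.symm.injective, Ideal.Quotient.eq_zero_iff_mem]

/-- A point, its residue point and a branch inside a chart. -/
lemma exists_branch [IsAlgClosed k] {B : Type u} [CommRing B] [Algebra k B] [Algebra.FiniteType k B]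
    (j : Spec (CommRingCat.of B) ⟶ X) [IsOpenImmersion j] {η p : X} (hηp : η ⤳ p) (hne : η ≠ p)
    (hp : IsClosed ({p} : Set X)) (hpj : p ∈ Set.range j) :
    ∃ (pt : B →ₐ[k] k) (q : PrimeSpectrum B) (m : PrimeSpectrum B), j q = η ∧ j m = p ∧
      RingHom.ker pt = m.asIdeal ∧ q.asIdeal < RingHom.ker pt := by
  obtain ⟨m, hm⟩ := hpj
  obtain ⟨q, hq⟩ := hηp.mem_open j.isOpenEmbedding.isOpen_range ⟨m, hm⟩
  have hmc : IsClosed ({m} : Set (PrimeSpectrum B)) := by
    have h' := hp.preimage j.continuous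
    rw [← hm] at h'
    have e : j ⁻¹' {j m} = {m} := Set.eq_singleton_iff_unique_mem.2 ⟨rfl, fun x hx => j.isOpenEmbedding.injective hx⟩
    exact e ▸ h'
  obtain ⟨pt, hpt⟩ := exists_pt (k := k) m hmc
  refine ⟨pt, q, m, hq, hm, hpt, ?_⟩
  rw [hpt]
  refine lt_of_le_of_ne ((PrimeSpectrum.le_iff_specializes q m).2 ?_) fun e => hne ?_
  · rwa [← j.isOpenEmbedding.isInducing.specializes_iff, hq, hm]
  · rw [← hq, ← hm, PrimeSpectrum.ext e]

variable [IsAlgClosed k] [IsSeparated f] [LocallyOfFiniteType f] {n : ℕ}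

/-- A rational point as an ideal in a chart containing its support. -/
lemma exists_ideal {H : Over (Spec (CommRingCat.of k))} (Z : HilbD.Obj f n H) (a : TP k k ⟶ H)
    {B : Type u} [CommRing B] [Algebra k B] (j : Spec (CommRingCat.of B) ⟶ X) [IsOpenImmersion j]
    (hw : j ≫ f = fB (R := k) (B := B) (𝟙 (Spec (CommRingCat.of k))) ≫ 𝟙 (Spec (CommRingCat.of k)))
    (hs : Set.range ((pullObj f a Z).1.subschemeι ≫ pullback.fst f (TP k k).hom) ⊆ Set.range j) :
    ∃ (I : Ideal B) (_ : Module.Finite k (B ⧸ I)), Module.finrank k (B ⧸ I) = n ∧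
      HilbD.pull f a Z.1 = fam f j hw (ext k I) := by
  obtain ⟨K, ⟨hf, -, hr⟩, hK⟩ := exists_eq_fam f j hw (pullObj f a Z) fun z => hs ⟨z, rfl⟩
  let I := K.comap (Algebra.TensorProduct.includeRight : B →ₐ[k] k ⊗[k] B)
  have hI : ext k I = K := exists_eq_ext K
  let e : ((k ⊗[k] B) ⧸ K) ≃ₐ[k] k ⊗[k] (B ⧸ I) :=
    (Ideal.quotientEquivAlgOfEq k (hI.symm.trans (ker_qI k I).symm)).trans
      (Ideal.quotientKerAlgEquivOfSurjective (qI_surjective k I))
  haveI : Module.Finite k (k ⊗[k] (B ⧸ I)) := Module.Finite.equiv e.toLinearEquiv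
  refine ⟨I, Module.Finite.equiv (TensorProduct.lid k (B ⧸ I)), ?_, ?_⟩
  · rw [← (TensorProduct.lid k (B ⧸ I)).finrank_eq, ← e.toLinearEquiv.finrank_eq, hr]
  · rw [hI]; exact hK.symm

variable (hiso : ∀ x : X, IsClosed ({x} : Set X) → ∃ y, y ≠ x ∧ y ⤳ x)
  (haff : ∀ x : Fin (n + 1) → X, ∃ U : X.Opens, IsAffineOpen U ∧ ∀ i, x i ∈ U)
  {H : Over (Spec (CommRingCat.of k))} (Z : HilbD.Obj f n H)
  {H' : Over (Spec (CommRingCat.of k))} (Z' : HilbD.Obj f (n + 1) H') (hZ' : HilbD.IsUniversal f (n + 1) H' Z')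
  (Φ : pairs f H Z ⟶ H')
  (hΦ : HilbD.pull f Φ Z'.1 =
    HilbD.pull f (forgetPt f H Z) Z.1 * HilbD.secGraph f (pairs f H Z) (thePt f H Z) (thePt_w f H Z))

include hiso haff hZ' hΦ

/-- Over a rational point of `H` all components are the same. -/
theorem exists_fibre_component [ConnectedSpace X] (a : TP k k ⟶ H) :
    ∃ c : _root_.ConnectedComponents H'.left,
      (∀ u : (pairOpen f H Z).toScheme, pullback.snd f H.hom u.1 = a.left (IsLocalRing.closedPoint k) →
        _root_.ConnectedComponents.mk (Φ.left u) = c) ∧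
      ∃ u : (pairOpen f H Z).toScheme, pullback.snd f H.hom u.1 = a.left (IsLocalRing.closedPoint k) := by
  classical
  haveI : IsLocallyNoetherian X := LocallyOfFiniteType.isLocallyNoetherian f
  haveI : JacobsonSpace X := LocallyOfFiniteType.jacobsonSpace f
  let E := Set.range ((pullObj f a Z).1.subschemeι ≫ pullback.fst f (TP k k).hom)
  have hE : E.encard ≤ n := encard_support f (pullObj f a Z)
  have hgen : ∀ {η p : X}, η ∈ genericPoints X → η ⤳ p → IsClosed ({p} : Set X) → η ≠ p := by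
    rintro η p hη - hp rfl
    obtain ⟨y, hy, hy'⟩ := hiso η hp
    exact hy (H17.mem_genericPoints_iff.1 hη y hy')
  -- at a closed point
  have key : ∀ p : X, IsClosed ({p} : Set X) → ∃ c : _root_.ConnectedComponents H'.left,
      ∀ η ∈ genericPoints X, η ⤳ p → ∃ h : slice f a η ∈ pairOpen f H Z,
        _root_.ConnectedComponents.mk (Φ.left ⟨_, h⟩) = c := by
    intro p hp
    obtain ⟨B, _, _, _, j, _, hw, hEj⟩ := exists_chart f haff (E := insert p E)
      ((Set.encard_insert_le _ _).trans (by push_cast; exact add_le_add hE le_rfl))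
    obtain ⟨I, _, hn, hI⟩ := exists_ideal f Z a j hw ((Set.subset_insert p E).trans hEj)
    have hlim : ∀ η ∈ genericPoints X, η ⤳ p → ∃ (pt : B →ₐ[k] k) (m : PrimeSpectrum B)
        (J : Ideal B) (_ : Module.Finite k (B ⧸ J)) (b : TP k k ⟶ H') (h : slice f a η ∈ pairOpen f H Z),
        j m = p ∧ RingHom.ker pt = m.asIdeal ∧ Module.finrank k (B ⧸ J) = n + 1 ∧ J ≤ I ∧
        I * RingHom.ker pt ≤ J ∧ HilbD.pull f b Z'.1 = fam f j hw (ext k J) ∧
        comp b = _root_.ConnectedComponents.mk (Φ.left ⟨_, h⟩) := by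
      intro η hη hηp
      obtain ⟨pt, q, m, hq, hm, hpt, hlt⟩ :=
        exists_branch (k := k) j hηp (hgen hη hηp hp) hp (hEj (Set.mem_insert p E))
      obtain ⟨J, hJf, b, hu, h1, h2, h3, h4, h5⟩ :=
        exists_limit f j hw Z Z' hZ' Φ hΦ a I hn hI q.asIdeal pt hlt
      subst hq
      exact ⟨pt, m, J, hJf, b, hu, hm, hpt, h1, h2, h3, h4, h5⟩
    obtain ⟨η₀, hη₀, hη₀p⟩ := H17.exists_genericPoint_specializes p
    obtain ⟨pt₀, m₀, J₀, _, b₀, -, hm₀, hpt₀, a1, a2, a3, a4, -⟩ := hlim η₀ hη₀ hη₀p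
    refine ⟨comp b₀, fun η hη hηp => ?_⟩
    obtain ⟨pt, m, J, _, b, h, hm, hpt, b1, b2, b3, b4, b5⟩ := hlim η hη hηp
    refine ⟨h, ?_⟩
    rw [← b5]
    have : m = m₀ := j.isOpenEmbedding.injective (hm.trans hm₀.symm)
    subst this
    rw [hpt, ← hpt₀] at b3
    exact comp_eq_of_pencil f j hw Z' hZ' pt₀ hn b2 a2 b1 a1 b3 a3 b b₀ b4 a4
  choose cl hcl using key
  choose top htop hclosed using fun x : X => exists_closed_specializes x
  let g : X → _root_.ConnectedComponents H'.left := fun x => cl (top x) (htop x)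
  have hg : ∀ x y : X, x ⤳ y → g x = g y := by
    intro x y hxy
    obtain ⟨η, hη, hηx⟩ := H17.exists_genericPoint_specializes x
    obtain ⟨_, h₁⟩ := hcl (top x) (htop x) η hη (hηx.trans (hclosed x))
    obtain ⟨_, h₂⟩ := hcl (top y) (htop y) η hη ((hηx.trans hxy).trans (hclosed y))
    exact h₁.symm.trans h₂
  obtain ⟨x₀⟩ := (inferInstance : Nonempty X)
  have hconst : ∀ x, g x = g x₀ := fun x =>
    (isLocallyConstant_of_specializes g hg).apply_eq_of_preconnectedSpace x x₀
  have hsnd : ∀ x : X, pullback.snd f H.hom (slice f a x) = a.left (IsLocalRing.closedPoint k) := fun x => by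
    rw [← Scheme.Hom.comp_apply, slice, pullback.lift_snd, Scheme.Hom.comp_apply]
    exact congrArg a.left (@Subsingleton.elim (PrimeSpectrum k) inferInstance _ _)
  refine ⟨g x₀, fun u hu => ?_, ?_⟩
  · obtain ⟨y, hy⟩ := exists_slice_eq f a u.1 hu
    obtain ⟨η, hη, hηy⟩ := H17.exists_genericPoint_specializes y
    obtain ⟨h, hh⟩ := hcl (top y) (htop y) η hη (hηy.trans (hclosed y))
    have hv : (⟨_, h⟩ : (pairOpen f H Z).toScheme) ⤳ u := by
      rw [subtype_specializes_iff]
      show slice f a η ⤳ u.1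
      rw [← hy]
      exact hηy.map (slice f a).continuous
    rw [← mk_eq_of_specializes (hv.map Φ.left.continuous), hh]
    exact hconst y
  · obtain ⟨η, hη, hηx⟩ := H17.exists_genericPoint_specializes x₀
    obtain ⟨h, -⟩ := hcl (top x₀) (htop x₀) η hη (hηx.trans (hclosed x₀))
    exact ⟨⟨_, h⟩, hsnd η⟩

/-- Every rational point of `H'` is in the component of the image of a pair. -/
theorem exists_pair [LocallyOfFiniteType H'.hom] (hZ : HilbD.IsUniversal f n H Z) (b : TP k k ⟶ H') :
    ∃ (a : TP k k ⟶ H) (u : (pairOpen f H Z).toScheme),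
      pullback.snd f H.hom u.1 = a.left (IsLocalRing.closedPoint k) ∧
        comp b = _root_.ConnectedComponents.mk (Φ.left u) := by
  classical
  haveI : IsLocallyNoetherian X := LocallyOfFiniteType.isLocallyNoetherian f
  obtain ⟨B, _, _, _, j, _, hw, hEj⟩ :=
    exists_chart f haff (E := _) (encard_support f (pullObj f b Z'))
  obtain ⟨J, _, hJn, hJ⟩ := exists_ideal f Z' b j hw hEj
  obtain ⟨I, pt, hJI, -, hm, hI⟩ := exists_residual (k := k) J (by
    rintro rfl
    rw [Module.finrank_zero_iff.2 inferInstance] at hJn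
    omega)
  haveI : Module.Finite k (B ⧸ I) := Module.Finite.of_surjective (Ideal.Quotient.factorₐ k hJI).toLinearMap
    (Ideal.Quotient.factor_surjective hJI)
  have hn : Module.finrank k (B ⧸ I) = n := by omega
  let eI : ((k ⊗[k] B) ⧸ ext (k := k) k I) ≃ₐ[k] k ⊗[k] (B ⧸ I) :=
    (Ideal.quotientEquivAlgOfEq k (ker_qI k I).symm).trans
      (Ideal.quotientKerAlgEquivOfSurjective (qI_surjective k I))
  obtain ⟨a, ha, -⟩ := hZ (TP k k) (famObj f j hw (ext (k := k) k I)
    ⟨Module.Finite.equiv eI.symm.toLinearEquiv, inferInstance, by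
      rw [eI.toLinearEquiv.finrank_eq, Module.finrank_baseChange, hn]⟩)
  let m : PrimeSpectrum B := ⟨RingHom.ker pt, RingHom.ker_isPrime _⟩
  have hmax : (RingHom.ker pt).IsMaximal := RingHom.ker_isMaximal_of_surjective pt fun c => ⟨algebraMap k B c, pt.commutes c⟩
  obtain ⟨η, hη, hηp⟩ := H17.exists_genericPoint_specializes (j m)
  obtain ⟨q, hq⟩ := hηp.mem_open j.isOpenEmbedding.isOpen_range ⟨m, rfl⟩
  haveI : JacobsonSpace X := LocallyOfFiniteType.jacobsonSpace f
  haveI : JacobsonSpace (Spec (CommRingCat.of B)) := LocallyOfFiniteType.jacobsonSpace (j ≫ f)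
  have hpclosed : IsClosed ({j m} : Set X) := by
    have hmc : IsClosed ({m} : Set (PrimeSpectrum B)) := (PrimeSpectrum.isClosed_singleton_iff_isMaximal m).2 hmax
    have : m ∈ j ⁻¹' closedPoints X := by
      rw [j.isOpenEmbedding.preimage_closedPoints]
      exact hmc
    exact this
  have hlt : q.asIdeal < RingHom.ker pt := by
    refine lt_of_le_of_ne ((PrimeSpectrum.le_iff_specializes q m).2 ?_) fun e => ?_
    · rwa [← j.isOpenEmbedding.isInducing.specializes_iff, hq]
    · obtain ⟨y, hy, hy'⟩ := hiso (j m) hpclosed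
      refine hy ?_
      have e' : q = m := PrimeSpectrum.ext e
      subst e'
      rw [hq] at hy' ⊢
      exact H17.mem_genericPoints_iff.1 hη y hy'
  obtain ⟨J', _, b', hu, h1, h2, h3, h4, h5⟩ :=
    exists_limit f j hw Z Z' hZ' Φ hΦ a I hn (ha.trans rfl) q.asIdeal pt hlt
  refine ⟨a, ⟨_, hu⟩, ?_, ?_⟩
  · show pullback.snd f H.hom (slice f a _) = _
    rw [← Scheme.Hom.comp_apply, slice, pullback.lift_snd, Scheme.Hom.comp_apply]
    exact congrArg a.left (@Subsingleton.elim (PrimeSpectrum k) inferInstance _ _)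
  · rw [← h5]
    exact comp_eq_of_pencil f j hw Z' hZ' pt hn hJI h2 hJn h1 hm h3 b b' hJ h4

omit hΦ in
/-- The inductive step. -/
theorem connectedSpace_succ [ConnectedSpace X] (hZ : HilbD.IsUniversal f n H Z) [ConnectedSpace H.left] :
    ConnectedSpace H'.left := by
  classical
  obtain ⟨Φ, hΦ⟩ := exists_addPt f H Z H' Z' hZ'
  haveI : LocallyOfFiniteType H.hom := locallyOfFiniteType f (fun x => by
    obtain ⟨U, hU, hxU⟩ := haff (Fin.snoc x (Classical.arbitrary X))
    exact ⟨U, hU, fun i => by simpa using hxU i.castSucc⟩) H Z hZ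
  haveI : LocallyOfFiniteType H'.hom := locallyOfFiniteType f haff H' Z' hZ'
  haveI : JacobsonSpace H.left := LocallyOfFiniteType.jacobsonSpace H.hom
  haveI : JacobsonSpace H'.left := LocallyOfFiniteType.jacobsonSpace H'.hom
  haveI : IsLocallyNoetherian H'.left := LocallyOfFiniteType.isLocallyNoetherian H'.hom
  have hlc : IsLocallyConstant (_root_.ConnectedComponents.mk : H'.left → _) :=
    isLocallyConstant_of_specializes _ fun _ _ h => mk_eq_of_specializes h
  let γ : (pairOpen f H Z).toScheme → _root_.ConnectedComponents H'.left :=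
    fun u => _root_.ConnectedComponents.mk (Φ.left u)
  let W : _root_.ConnectedComponents H'.left → Set H.left := fun c => (forgetPt f H Z).left '' (γ ⁻¹' {c})
  have hW : ∀ c, IsOpen (W c) := fun c => isOpenMap_forgetPt f H Z _
    ((hlc.isOpen_fiber c).preimage Φ.left.continuous)
  have hfib : ∀ h : H.left, IsClosed ({h} : Set H.left) →
      ∃ c, (∀ c', h ∈ W c' → c' = c) ∧ h ∈ W c := by
    intro h hh
    obtain ⟨a, rfl⟩ := exists_point hh
    obtain ⟨c, hc, u, hu⟩ := exists_fibre_component f hiso haff Z Z' hZ' Φ hΦ a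
    refine ⟨c, fun c' hc' => ?_, ⟨u, hc u hu, hu⟩⟩
    obtain ⟨v, hv, hv'⟩ := hc'
    exact hv.symm.trans (hc v hv')
  have hdisj : ∀ c c', (W c ∩ W c').Nonempty → c = c' := by
    intro c c' hne
    obtain ⟨h, hh, hhc⟩ := nonempty_inter_closedPoints hne ((hW c).inter (hW c')).isLocallyClosed
    obtain ⟨c₀, hc₀, -⟩ := hfib h hhc
    exact (hc₀ c hh.1).trans (hc₀ c' hh.2).symm
  have hcov : ∀ h : H.left, ∃ c, h ∈ W c := by
    intro h
    obtain ⟨p, hp, hhp⟩ := exists_closed_specializes h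
    obtain ⟨c, -, hc⟩ := hfib p hp
    exact ⟨c, hhp.mem_open (hW c) hc⟩
  choose gH hgH using hcov
  have hgH' : IsLocallyConstant gH := by
    rw [IsLocallyConstant.iff_exists_open]
    exact fun h => ⟨W (gH h), hW _, hgH h, fun h' hh' => hdisj _ _ ⟨h', hgH h', hh'⟩⟩
  obtain ⟨h₀⟩ := (inferInstance : Nonempty H.left)
  have hall : ∀ u, γ u = gH h₀ := fun u =>
    (hdisj _ _ ⟨_, ⟨u, rfl, rfl⟩, hgH _⟩).trans (hgH'.apply_eq_of_preconnectedSpace _ h₀)
  have hcomp : ∀ x : H'.left, _root_.ConnectedComponents.mk x = gH h₀ := by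
    intro x
    obtain ⟨p, hp, hxp⟩ := exists_closed_specializes x
    obtain ⟨b, rfl⟩ := exists_point hp
    obtain ⟨a, u, -, hu⟩ := exists_pair f hiso haff Z Z' hZ' Φ hΦ hZ b
    exact ((mk_eq_of_specializes hxp).trans hu).trans (hall u)
  obtain ⟨u₀, -⟩ := hgH h₀
  haveI : Nonempty H'.left := ⟨Φ.left u₀⟩
  haveI : PreconnectedSpace H'.left := by
    rw [preconnectedSpace_iff_connectedComponent]
    exact fun x => Set.eq_univ_of_forall fun y =>
      _root_.ConnectedComponents.coe_eq_coe'.mp ((hcomp y).trans (hcomp x).symm)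
  exact ⟨inferInstance⟩

end Groth.Agent.H27Fogarty
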