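import Groth.Agent.H22Alg.KrullAkizuki
import Mathlib

/-! # A trait through a closed point inside a given branch -/

set_option autoImplicit false
set_option linter.style.haveILetI false
set_option backward.isDefEq.respectTransparency false
set_option backward.isDefEq.respectTransparency.types false

universe u

namespace Groth.Agent.H27Fogarty

/-- A rational point of a ring extends to its localisation. -/
theorem exists_point_localization {k A : Type u} [Field k] [CommRing A] [Algebra k A] (φ : A →ₐ[k] k)
    (M : Ideal A) [M.IsPrime] (hM : RingHom.ker φ = M) (R : Type u) [CommRing R] [Algebra k R] [Algebra A R]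
    [IsScalarTower k A R] [IsLocalization.AtPrime R M] [IsLocalRing R] :
    ∃ ρ : R →ₐ[k] k, ρ.comp (IsScalarTower.toAlgHom k A R) = φ ∧ RingHom.ker ρ = IsLocalRing.maximalIdeal R := by
  have hu : ∀ y : M.primeCompl, IsUnit ((φ : A →+* k) y) := fun y =>
    isUnit_iff_ne_zero.2 fun h => y.2 ((SetLike.ext_iff.1 hM _).1 (RingHom.mem_ker.2 h))
  let g : R →+* k := IsLocalization.lift hu
  have hg : ∀ a, g (algebraMap A R a) = φ a := IsLocalization.lift_eq hu
  let ρ : R →ₐ[k] k :=
    { g with
      commutes' := fun c => by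
        show g (algebraMap k R c) = _
        rw [IsScalarTower.algebraMap_apply k A R, hg, φ.commutes] }
  refine ⟨ρ, AlgHom.ext hg, ?_⟩
  have hs : Function.Surjective ρ := fun c => ⟨algebraMap k R c, ρ.commutes c⟩
  exact IsLocalRing.eq_maximalIdeal (RingHom.ker_isMaximal_of_surjective ρ hs)

/-- A trait dominating a one-dimensional local domain with residue field `k`. -/
theorem exists_trait_local {k : Type u} [Field k] [IsAlgClosed k] {D : Type u} [CommRing D] [IsDomain D]
    [IsLocalRing D] [IsNoetherianRing D] [Ring.KrullDimLE 1 D] [Algebra k D]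
    (φD : D →ₐ[k] k) (hφD : RingHom.ker φD = IsLocalRing.maximalIdeal D)
    (hne : IsLocalRing.maximalIdeal D ≠ ⊥) :
    ∃ (R : Type u) (_ : CommRing R) (_ : IsDomain R) (_ : IsDiscreteValuationRing R) (_ : Algebra k R)
      (x : D →ₐ[k] R) (ρ : R →ₐ[k] k), Function.Injective x ∧ ρ.comp x = φD := by
  classical
  haveI : IsDedekindDomain (integralClosure D (FractionRing D)) :=
    H22Alg.isDedekindDomain_integralClosure (B := D) (K := FractionRing D)
  have hinj : Function.Injective (algebraMap D (integralClosure D (FractionRing D))) := fun a b h =>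
    IsFractionRing.injective D (FractionRing D) (congrArg Subtype.val h)
  obtain ⟨M, -, hMp, hMo⟩ := Ideal.exists_ideal_over_prime_of_isIntegral
    (S := ↥(integralClosure D (FractionRing D))) (IsLocalRing.maximalIdeal D) ⊥
    (by rw [Ideal.comap_bot_of_injective _ hinj]; exact bot_le)
  haveI := hMp
  haveI hM : M.IsMaximal := Ideal.isMaximal_of_isIntegral_of_isMaximal_comap M
    (hMo.symm ▸ IsLocalRing.maximalIdeal.isMaximal D)
  have hMne : M ≠ ⊥ := by
    intro h
    rw [h, Ideal.comap_bot_of_injective _ hinj] at hMo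
    exact hne hMo.symm
  letI := Ideal.Quotient.field M
  haveI : Algebra.IsIntegral k ((integralClosure D (FractionRing D)) ⧸ M) := ⟨fun y => by
    obtain ⟨a, rfl⟩ := Ideal.Quotient.mk_surjective y
    obtain ⟨P, hP, hPa⟩ := Algebra.IsIntegral.isIntegral (R := D) a
    refine ⟨P.map (φD : D →+* k), hP.map _, ?_⟩
    have key : (algebraMap k ((integralClosure D (FractionRing D)) ⧸ M)).comp (φD : D →+* k) =
        (Ideal.Quotient.mk M).comp (algebraMap D (integralClosure D (FractionRing D))) := by
      ext d
      show algebraMap k _ (φD d) = Ideal.Quotient.mk M (algebraMap D _ d)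
      rw [IsScalarTower.algebraMap_apply k (integralClosure D (FractionRing D)) (_ ⧸ M),
        IsScalarTower.algebraMap_apply k D (integralClosure D (FractionRing D)), Ideal.Quotient.algebraMap_eq,
        Ideal.Quotient.eq, ← map_sub, ← Ideal.mem_comap, hMo, ← hφD, RingHom.mem_ker]
      show φD _ = 0
      rw [map_sub, φD.commutes]
      exact sub_self _
    rw [Polynomial.eval₂_map, key, ← Polynomial.hom_eval₂, hPa, map_zero]⟩
  let e := AlgEquiv.ofBijective (Algebra.ofId k ((integralClosure D (FractionRing D)) ⧸ M))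
    (IsAlgClosed.algebraMap_bijective_of_isIntegral)
  let φA : (integralClosure D (FractionRing D)) →ₐ[k] k := e.symm.toAlgHom.comp (Ideal.Quotient.mkₐ k M)
  have hφA : RingHom.ker φA = M := by
    ext a
    rw [RingHom.mem_ker]
    show e.symm (Ideal.Quotient.mk M a) = 0 ↔ _
    rw [map_eq_zero_iff _ e.symm.injective, Ideal.Quotient.eq_zero_iff_mem]
  obtain ⟨ρ, hρ, -⟩ := exists_point_localization φA M hφA (Localization.AtPrime M)
  haveI hDVR : IsDiscreteValuationRing (Localization.AtPrime M) :=
    IsLocalization.AtPrime.isDiscreteValuationRing_of_dedekind_domain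
      (integralClosure D (FractionRing D)) hMne (Localization.AtPrime M)
  refine ⟨Localization.AtPrime M, inferInstance,
    IsLocalization.isDomain_of_le_nonZeroDivisors (Localization.AtPrime M) M.primeCompl_le_nonZeroDivisors,
    hDVR, inferInstance,
    (IsScalarTower.toAlgHom k (integralClosure D (FractionRing D)) (Localization.AtPrime M)).comp
      (IsScalarTower.toAlgHom k D (integralClosure D (FractionRing D))), ρ,
    (IsLocalization.injective (Localization.AtPrime M) M.primeCompl_le_nonZeroDivisors).comp hinj, ?_⟩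
  rw [← AlgHom.comp_assoc, hρ]
  ext d
  show φA (algebraMap D _ d) = φD d
  have h : φA (algebraMap D _ (d - algebraMap k D (φD d))) = 0 := by
    rw [← RingHom.mem_ker, hφA, ← Ideal.mem_comap, hMo, ← hφD, RingHom.mem_ker]
    show φD _ = 0
    rw [map_sub, φD.commutes]
    exact sub_self _
  rw [map_sub, map_sub, sub_eq_zero, ← IsScalarTower.algebraMap_apply k D, φA.commutes] at h
  exact h

/-- On an algebra of finite type over an algebraically closed field, a trait centred at a rational point
whose generic point lies in a given branch and is not the centre. -/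
theorem exists_trait {k : Type u} [Field k] [IsAlgClosed k] {B : Type u} [CommRing B] [Algebra k B]
    [Algebra.FiniteType k B] (q₀ : Ideal B) [q₀.IsPrime] (pt : B →ₐ[k] k) (hlt : q₀ < RingHom.ker pt) :
    ∃ (R : Type u) (_ : CommRing R) (_ : IsDomain R) (_ : IsDiscreteValuationRing R) (_ : Algebra k R)
      (x : B →ₐ[k] R) (ρ : R →ₐ[k] k), ρ.comp x = pt ∧ q₀ ≤ RingHom.ker x ∧
        ¬ RingHom.ker pt ≤ RingHom.ker x := by
  classical
  haveI : IsNoetherianRing B := Algebra.FiniteType.isNoetherianRing k B
  obtain ⟨q, ⟨hqp, hq₀, hqm⟩, hmax⟩ :=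
    set_has_maximal_iff_noetherian.2 (inferInstance : IsNoetherian B B)
      {q : Ideal B | q.IsPrime ∧ q₀ ≤ q ∧ q < RingHom.ker pt} ⟨q₀, inferInstance, le_rfl, hlt⟩
  haveI := hqp
  let φ : B ⧸ q →ₐ[k] k := Ideal.Quotient.liftₐ q pt fun a ha => RingHom.mem_ker.1 (hqm.le ha)
  have hφs : Function.Surjective φ := fun c => ⟨algebraMap k _ c, φ.commutes c⟩
  haveI : (RingHom.ker φ).IsMaximal := RingHom.ker_isMaximal_of_surjective φ hφs
  obtain ⟨φD, hφD, hkerD⟩ := exists_point_localization φ (RingHom.ker φ) rfl
    (Localization.AtPrime (RingHom.ker φ))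
  have hlinj : Function.Injective (algebraMap (B ⧸ q) (Localization.AtPrime (RingHom.ker φ))) :=
    IsLocalization.injective _ (RingHom.ker φ).primeCompl_le_nonZeroDivisors
  haveI : IsDomain (Localization.AtPrime (RingHom.ker φ)) :=
    IsLocalization.isDomain_of_le_nonZeroDivisors _ (RingHom.ker φ).primeCompl_le_nonZeroDivisors
  haveI : IsNoetherianRing (Localization.AtPrime (RingHom.ker φ)) :=
    IsLocalization.isNoetherianRing (RingHom.ker φ).primeCompl _ inferInstance
  haveI : Ring.KrullDimLE 1 (Localization.AtPrime (RingHom.ker φ)) := by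
    refine Ring.krullDimLE_one_iff_of_noZeroDivisors.2 fun P hP hPp => ?_
    let P₀ := P.comap (algebraMap (B ⧸ q) (Localization.AtPrime (RingHom.ker φ)))
    have hle : P₀ ≤ RingHom.ker φ := by
      refine (Ideal.comap_mono (IsLocalRing.le_maximalIdeal hPp.ne_top)).trans ?_
      exact (IsLocalization.AtPrime.under_maximalIdeal (Localization.AtPrime (RingHom.ker φ)) (RingHom.ker φ)).le
    have hmap : P₀.map (algebraMap (B ⧸ q) (Localization.AtPrime (RingHom.ker φ))) = P :=
      IsLocalization.map_comap (RingHom.ker φ).primeCompl _ P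
    by_cases he : P₀ = RingHom.ker φ
    · have : P = IsLocalRing.maximalIdeal _ := by
        rw [← hmap, he, IsLocalization.AtPrime.map_eq_maximalIdeal]
      rw [this]
      exact IsLocalRing.maximalIdeal.isMaximal _
    · exfalso
      refine hP ?_
      have h1 : P₀.comap (Ideal.Quotient.mk q) ∈ {q : Ideal B | q.IsPrime ∧ q₀ ≤ q ∧ q < RingHom.ker pt} := by
        refine ⟨Ideal.comap_isPrime _ _, hq₀.trans fun z hz => ?_, lt_of_le_of_ne ?_ ?_⟩
        · rw [Ideal.mem_comap, Ideal.Quotient.eq_zero_iff_mem.2 hz]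
          exact zero_mem _
        · intro z hz
          exact RingHom.mem_ker.2 (RingHom.mem_ker.1 (hle hz) :)
        · intro h
          refine he (le_antisymm hle fun w hw => ?_)
          obtain ⟨z, rfl⟩ := Ideal.Quotient.mk_surjective w
          exact h.ge (RingHom.mem_ker.2 (RingHom.mem_ker.1 hw :))
      have hz : P₀ = ⊥ := by
        refine eq_bot_iff.2 fun w hw => ?_
        obtain ⟨z, rfl⟩ := Ideal.Quotient.mk_surjective w
        have hq : q ≤ P₀.comap (Ideal.Quotient.mk q) := fun a ha => by
          rw [Ideal.mem_comap, Ideal.Quotient.eq_zero_iff_mem.2 ha]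
          exact zero_mem _
        rw [Ideal.mem_bot, Ideal.Quotient.eq_zero_iff_mem, eq_of_le_of_not_lt hq (hmax _ h1)]
        exact hw
      rw [← hmap, hz, Ideal.map_bot]
  have hne : IsLocalRing.maximalIdeal (Localization.AtPrime (RingHom.ker φ)) ≠ ⊥ := by
    intro h
    refine hqm.not_ge fun z hz => ?_
    have : algebraMap (B ⧸ q) (Localization.AtPrime (RingHom.ker φ)) (Ideal.Quotient.mk q z) ∈
        IsLocalRing.maximalIdeal (Localization.AtPrime (RingHom.ker φ)) := by
      rw [← hkerD, RingHom.mem_ker]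
      exact (DFunLike.congr_fun hφD (Ideal.Quotient.mk q z)).trans (RingHom.mem_ker.1 hz)
    rw [h, Ideal.mem_bot, map_eq_zero_iff _ hlinj, Ideal.Quotient.eq_zero_iff_mem] at this
    exact this
  obtain ⟨R, iR, idom, hdvr, alg, xD, ρ, hxinj, hρ⟩ := exists_trait_local φD hkerD hne
  refine ⟨R, iR, idom, hdvr, alg,
    (xD.comp (IsScalarTower.toAlgHom k (B ⧸ q) _)).comp (Ideal.Quotient.mkₐ k q), ρ, ?_, ?_, ?_⟩
  · rw [← AlgHom.comp_assoc, ← AlgHom.comp_assoc, hρ, hφD]
    rfl
  · intro z hz
    rw [RingHom.mem_ker]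
    show xD (algebraMap (B ⧸ q) _ (Ideal.Quotient.mk q z)) = 0
    rw [Ideal.Quotient.eq_zero_iff_mem.2 (hq₀ hz), map_zero, map_zero]
  · intro h
    refine hqm.not_ge fun z hz => ?_
    have := RingHom.mem_ker.1 (h hz)
    change xD (algebraMap (B ⧸ q) _ (Ideal.Quotient.mk q z)) = 0 at this
    rw [map_eq_zero_iff _ hxinj, map_eq_zero_iff _ hlinj, Ideal.Quotient.eq_zero_iff_mem] at this
    exact this

end Groth.Agent.H27Fogarty
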