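import Mathlib

/-! # `dim Hom(I, B/I) ≤ 2 · colength I` when `B` is locally two-generated at the points of `I` -/

set_option autoImplicit false
set_option linter.style.haveILetI false
set_option backward.isDefEq.respectTransparency false
set_option backward.isDefEq.respectTransparency.types false

universe u v w

namespace Groth.Agent.H27Fogarty.HomBound

variable {k : Type u} [Field k] {B : Type v} [CommRing B] [Algebra k B] [IsNoetherianRing B]
variable {M : Type w} [AddCommGroup M] [Module B M] [Module k M] [IsScalarTower k B M]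

theorem finite_hom [Module.Finite k M] (I : Ideal B) : Module.Finite k (↥I →ₗ[B] M) := by
  obtain ⟨s, hs⟩ := (IsNoetherian.noetherian (⊤ : Submodule B ↥I))
  let L : (↥I →ₗ[B] M) →ₗ[k] (↥(s : Set ↥I) → M) :=
    { toFun := fun φ p => φ p.1, map_add' := fun _ _ => rfl, map_smul' := fun _ _ => rfl }
  exact Module.Finite.of_injective L fun φ ψ h => LinearMap.ext_on hs fun x hx => congrFun h ⟨x, hx⟩

variable {I₀ I : Ideal B} {u x y : B} {m : Ideal B}

/-- Extending a homomorphism across a socle step. -/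
theorem exists_extend (hM : ∀ a ∈ I₀, ∀ z : M, a • z = 0) (hle : I₀ ≤ I) (hm : m.IsMaximal)
    (hgen : ∀ r ∈ m, ∃ r₁ r₂, ∃ l ∈ I₀ * I₀, r = r₁ * x + r₂ * y + l)
    (hu : u ∉ I) (hum : ∀ r ∈ m, r * u ∈ I) (hxm : x ∈ m) (hym : y ∈ m)
    (φ : ↥I →ₗ[B] M) (z : M) (mx : φ ⟨_, hum x hxm⟩ = x • z) (my : φ ⟨_, hum y hym⟩ = y • z) :
    ∃ f : ↥(I ⊔ Ideal.span {u}) →ₗ[B] M,
      f.comp (Submodule.inclusion le_sup_left) = φ ∧
        f ⟨u, Submodule.mem_sup_right (Ideal.subset_span rfl)⟩ = z := by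
  let ι : (↥I × B) →ₗ[B] ↥(I ⊔ Ideal.span {u}) :=
    (Submodule.inclusion le_sup_left).coprod
      (LinearMap.toSpanSingleton B _ ⟨u, Submodule.mem_sup_right (Ideal.subset_span rfl)⟩)
  have hι : Function.Surjective ι := fun a => by
    obtain ⟨i, hi, v, hv, hiv⟩ := Submodule.mem_sup.1 a.2
    obtain ⟨r, rfl⟩ := Ideal.mem_span_singleton'.1 hv
    exact ⟨(⟨i, hi⟩, r), Subtype.ext (by simpa [ι] using hiv)⟩
  let F : (↥I × B) →ₗ[B] M := φ.coprod (LinearMap.toSpanSingleton B _ z)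
  have hker : LinearMap.ker ι ≤ LinearMap.ker F := by
    rintro ⟨i, r⟩ hir
    have h0 : (i : B) + r * u = 0 := by simpa [ι] using congrArg Subtype.val (LinearMap.mem_ker.1 hir)
    have hru : r * u ∈ I := by
      have : r * u = -(i : B) := eq_neg_of_add_eq_zero_right h0
      rw [this]; exact I.neg_mem i.2
    have hr : r ∈ m := by
      by_contra hne
      obtain ⟨s, a, ha, hsa⟩ := hm.exists_inv hne
      apply hu
      rw [show u = s * (r * u) + a * u by rw [← mul_assoc, ← add_mul, hsa, one_mul]]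
      exact add_mem (I.mul_mem_left _ hru) (hum a ha)
    obtain ⟨r₁, r₂, l, hl, rfl⟩ := hgen r hr
    have hl0 : φ ⟨l * u, I.mul_mem_right u (Ideal.mul_le_inf.trans (inf_le_left.trans hle) hl)⟩ = 0 := by
      suffices ∀ l' ∈ I₀ * I₀, ∃ h : l' * u ∈ I, φ ⟨l' * u, h⟩ = 0 from (this l hl).2
      intro l' hl'
      induction hl' using Submodule.mul_induction_on' with
      | mem_mul_mem a ha b hb =>
        have hb' : b * u ∈ I := I.mul_mem_right u (hle hb)
        refine ⟨I.mul_mem_right u (I.mul_mem_left a (hle hb)), ?_⟩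
        have e : (⟨a * b * u, I.mul_mem_right u (I.mul_mem_left a (hle hb))⟩ : ↥I) = a • ⟨b * u, hb'⟩ :=
          Subtype.ext (by simp [mul_assoc])
        rw [e, map_smul]
        exact hM a ha _
      | add a _ b _ ha hb =>
        obtain ⟨h1, e1⟩ := ha
        obtain ⟨h2, e2⟩ := hb
        refine ⟨by rw [add_mul]; exact I.add_mem h1 h2, ?_⟩
        have e : (⟨(a + b) * u, by rw [add_mul]; exact I.add_mem h1 h2⟩ : ↥I) = ⟨a * u, h1⟩ + ⟨b * u, h2⟩ :=
          Subtype.ext (by simp [add_mul])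
        rw [e, map_add, e1, e2, add_zero]
    have hlz : l • z = 0 := hM l (Ideal.mul_le_inf.trans inf_le_left hl) z
    have hi : i = -(r₁ • (⟨_, hum x hxm⟩ : ↥I) + r₂ • (⟨_, hum y hym⟩ : ↥I) +
        ⟨l * u, I.mul_mem_right u (Ideal.mul_le_inf.trans (inf_le_left.trans hle) hl)⟩) := Subtype.ext (by
      simp only [Submodule.coe_neg, Submodule.coe_add, Submodule.coe_smul, smul_eq_mul]
      linear_combination h0)
    rw [LinearMap.mem_ker, hi]
    simp only [F, LinearMap.coprod_apply, LinearMap.toSpanSingleton_apply, map_neg, map_add, map_smul, mx, my,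
      hl0, add_smul, mul_smul, hlz]
    abel
  refine ⟨((LinearMap.ker ι).liftQ F hker).comp (LinearMap.quotKerEquivOfSurjective ι hι).symm.toLinearMap, ?_, ?_⟩
  · refine LinearMap.ext fun i => ?_
    have e : (LinearMap.quotKerEquivOfSurjective ι hι).symm (Submodule.inclusion le_sup_left i) =
        Submodule.Quotient.mk (i, (0 : B)) := by
      rw [LinearEquiv.symm_apply_eq, LinearMap.quotKerEquivOfSurjective_apply_mk]; simp [ι]
    simp only [LinearMap.comp_apply, LinearEquiv.coe_coe, e, Submodule.liftQ_apply]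
    simp [F]
  · have e : (LinearMap.quotKerEquivOfSurjective ι hι).symm
        ⟨u, Submodule.mem_sup_right (Ideal.subset_span rfl)⟩ = Submodule.Quotient.mk ((0 : ↥I), (1 : B)) := by
      rw [LinearEquiv.symm_apply_eq, LinearMap.quotKerEquivOfSurjective_apply_mk]; simp [ι]
    simp only [LinearMap.comp_apply, LinearEquiv.coe_coe, e, Submodule.liftQ_apply]
    simp [F]

/-- One socle step costs at most one dimension. -/
theorem hom_step [Module.Finite k M] (hM : ∀ a ∈ I₀, ∀ z : M, a • z = 0) (hle : I₀ ≤ I) (hm : m.IsMaximal)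
    (hgen : ∀ r ∈ m, ∃ r₁ r₂, ∃ l ∈ I₀ * I₀, r = r₁ * x + r₂ * y + l)
    (hres : ∀ b : B, ∃ c : k, b - algebraMap k B c ∈ m) (hcyc : ∃ g : M, ∀ z : M, ∃ b : B, z = b • g)
    (hu : u ∉ I) (hum : ∀ r ∈ m, r * u ∈ I) (hxm : x ∈ m) (hym : y ∈ m) :
    Module.finrank k (↥I →ₗ[B] M) ≤ Module.finrank k (↥(I ⊔ Ideal.span {u}) →ₗ[B] M) + 1 := by
  have := finite_hom (k := k) (M := M) I
  have := finite_hom (k := k) (M := M) (I ⊔ Ideal.span {u})
  let res : (↥(I ⊔ Ideal.span {u}) →ₗ[B] M) →ₗ[k] (↥I →ₗ[B] M) :=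
    { toFun := fun f => f.comp (Submodule.inclusion le_sup_left), map_add' := fun _ _ => rfl, map_smul' := fun _ _ => rfl }
  let ψ : (↥I →ₗ[B] M) →ₗ[k] M × M :=
    { toFun := fun φ => (φ ⟨_, hum x hxm⟩, φ ⟨_, hum y hym⟩), map_add' := fun _ _ => rfl, map_smul' := fun _ _ => rfl }
  let mx : M →ₗ[k] M := (x • (LinearMap.id : M →ₗ[B] M)).restrictScalars k
  let my : M →ₗ[k] M := (y • (LinearMap.id : M →ₗ[B] M)).restrictScalars k
  let β : M →ₗ[k] M × M := mx.prod my
  let γ : M × M →ₗ[k] M := my.comp (LinearMap.fst k M M) - mx.comp (LinearMap.snd k M M)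
  have hBZ : LinearMap.range β ≤ LinearMap.ker γ := by
    rintro _ ⟨z, rfl⟩
    simp [γ, β, mx, my, smul_smul, mul_comm y]
  let q := (LinearMap.range β).mkQ.comp ψ
  have hq : LinearMap.range q ≤ (LinearMap.ker γ).map (LinearMap.range β).mkQ := by
    rintro _ ⟨φ, rfl⟩
    refine ⟨ψ φ, ?_, rfl⟩
    show y • φ ⟨_, hum x hxm⟩ - x • φ ⟨_, hum y hym⟩ = 0
    rw [sub_eq_zero, ← map_smul, ← map_smul]
    congr 1
    exact Subtype.ext (by simp only [Submodule.coe_smul, smul_eq_mul]; ring)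
  have hkq : LinearMap.ker q ≤ LinearMap.range res := by
    intro φ hφ
    obtain ⟨z, hz⟩ : ψ φ ∈ LinearMap.range β := by
      simpa [q, Submodule.Quotient.mk_eq_zero] using LinearMap.mem_ker.1 hφ
    obtain ⟨f, hf, -⟩ := exists_extend hM hle hm hgen hu hum hxm hym φ z (congrArg Prod.fst hz).symm
      (congrArg Prod.snd hz).symm
    exact ⟨f, hf⟩
  let ev : ↥(LinearMap.ker res) →ₗ[k] M :=
    { toFun := fun f => f.1 ⟨u, Submodule.mem_sup_right (Ideal.subset_span rfl)⟩, map_add' := fun _ _ => rfl,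
      map_smul' := fun _ _ => rfl }
  have hev : LinearMap.ker β ≤ LinearMap.range ev := by
    intro z hz
    obtain ⟨f, hf, hfu⟩ := exists_extend hM hle hm hgen hu hum hxm hym (0 : ↥I →ₗ[B] M) z
      (congrArg Prod.fst (LinearMap.mem_ker.1 hz)).symm (congrArg Prod.snd (LinearMap.mem_ker.1 hz)).symm
    exact ⟨⟨f, LinearMap.mem_ker.2 hf⟩, hfu⟩
  -- `M = k g + (x, y) M`
  obtain ⟨g, hg⟩ := hcyc
  have hcod : Module.finrank k M ≤ Module.finrank k ↥(LinearMap.range γ) + 1 := by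
    have htop : (⊤ : Submodule k M) = Submodule.span k {g} ⊔ LinearMap.range γ := by
      refine le_antisymm (fun z _ => ?_) le_top
      obtain ⟨b, rfl⟩ := hg z
      obtain ⟨c, hc⟩ := hres b
      obtain ⟨r₁, r₂, l, hl, e⟩ := hgen _ hc
      have hb : b = algebraMap k B c + (r₁ * x + r₂ * y + l) := by rw [← e]; ring
      rw [hb, add_smul, add_smul, hM l (Ideal.mul_le_inf.trans inf_le_left hl) g, add_zero, algebraMap_smul]
      exact Submodule.add_mem_sup (Submodule.smul_mem _ _ (Submodule.mem_span_singleton_self g))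
        ⟨(r₂ • g, -(r₁ • g)), by simp [γ, mx, my, add_smul, smul_smul, mul_comm x, mul_comm y, add_comm]⟩
    have h1 := Submodule.finrank_add_le_finrank_add_finrank (Submodule.span k {g}) (LinearMap.range γ)
    have h2 : Module.finrank k ↥(Submodule.span k {g}) ≤ 1 := (finrank_span_le_card _).trans (by simp)
    rw [← htop, finrank_top] at h1
    omega
  have e1 := LinearMap.finrank_range_add_finrank_ker q
  have e2 := LinearMap.finrank_range_add_finrank_ker res
  have e3 := LinearMap.finrank_range_add_finrank_ker β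
  have e4 := LinearMap.finrank_range_add_finrank_ker γ
  rw [Module.finrank_prod] at e4
  have e5 : Module.finrank k ↥((LinearMap.ker γ).map (LinearMap.range β).mkQ) + Module.finrank k ↥(LinearMap.range β) =
      Module.finrank k ↥(LinearMap.ker γ) := by
    have h := LinearMap.finrank_range_add_finrank_ker ((LinearMap.range β).mkQ.domRestrict (LinearMap.ker γ))
    rw [LinearMap.range_domRestrict, LinearMap.ker_domRestrict, Submodule.ker_mkQ] at h
    rw [(Submodule.comapSubtypeEquivOfLe hBZ).finrank_eq] at h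
    exact h
  have i1 := Submodule.finrank_mono hq
  have i2 := Submodule.finrank_mono hkq
  have i3 := (Submodule.finrank_mono hev).trans ev.finrank_range_le
  omega

omit [IsNoetherianRing B] in
/-- Two elements generating a maximal ideal locally generate it modulo an ideal of finite colength. -/
theorem exists_two_gen (L : Ideal B) [IsArtinianRing (B ⧸ L)] (m : Ideal B) (hm : m.IsMaximal) (hLm : L ≤ m)
    {g₁ g₂ s : B} (hg₁ : g₁ ∈ m) (hg₂ : g₂ ∈ m) (hs : s ∉ m) (hsm : ∀ r ∈ m, s * r ∈ Ideal.span {g₁, g₂}) :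
    ∃ x y, x ∈ m ∧ y ∈ m ∧ ∀ r ∈ m, ∃ r₁ r₂, ∃ l ∈ L, r = r₁ * x + r₂ * y + l := by
  classical
  -- an element outside `m` inside every other maximal ideal above `L`
  have hfin : {p : Ideal B | p.IsMaximal ∧ L ≤ p}.Finite := by
    refine Set.Finite.subset ((IsArtinianRing.setOfPred_isMaximal_finite (R := B ⧸ L)).image
      (Ideal.comap (Ideal.Quotient.mk L))) fun p hp => ⟨p.map (Ideal.Quotient.mk L), ?_, ?_⟩
    · haveI := hp.1
      exact Ideal.IsMaximal.map_of_surjective_of_ker_le (Ideal.Quotient.mk_surjective) (Ideal.mk_ker.trans_le hp.2)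
    · rw [Ideal.comap_map_of_surjective _ Ideal.Quotient.mk_surjective, sup_eq_left]
      exact Ideal.mk_ker.trans_le hp.2
  obtain ⟨t, htm, ht⟩ : ∃ t, t ∉ m ∧ ∀ p : Ideal B, p.IsMaximal → L ≤ p → p ≠ m → t ∈ p := by
    let F := hfin.toFinset.erase m
    have : ¬ (∏ p ∈ F, p) ≤ m := fun h => by
      obtain ⟨p, hp, hpm⟩ := (hm.isPrime.prod_le).1 h
      rw [Finset.mem_erase, Set.Finite.mem_toFinset] at hp
      exact hp.1 (hp.2.1.eq_of_le hm.ne_top hpm)
    obtain ⟨t, ht, htm⟩ := SetLike.not_le_iff_exists.1 this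
    refine ⟨t, htm, fun p hp hLp hne => Ideal.prod_le_inf.trans (Finset.inf_le ?_) ht⟩
    rw [Finset.mem_erase, Set.Finite.mem_toFinset]
    exact ⟨hne, hp, hLp⟩
  -- an idempotent
  obtain ⟨N, z, hz⟩ := IsArtinian.exists_pow_succ_smul_dvd (R := B ⧸ L) (M := B ⧸ L) (Ideal.Quotient.mk L t) 1
  obtain ⟨c, rfl⟩ := Ideal.Quotient.mk_surjective z
  simp only [smul_eq_mul, mul_one, Nat.succ_eq_add_one] at hz
  have hN : ∀ j, ∃ c', (Ideal.Quotient.mk L t) ^ N = (Ideal.Quotient.mk L t) ^ (N + j) * Ideal.Quotient.mk L c' := by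
    intro j
    induction j with
    | zero => exact ⟨1, by simp⟩
    | succ j ih =>
      obtain ⟨c', hc'⟩ := ih
      refine ⟨c' * c, ?_⟩
      rw [map_mul]
      linear_combination (norm := ring_nf) hc' - (Ideal.Quotient.mk L t) ^ j * Ideal.Quotient.mk L c' * hz
  obtain ⟨c', hc'⟩ := hN (N + 1)
  let e := t ^ (N + 1) * c'
  have hee : e * e - e ∈ L := by
    rw [← Ideal.Quotient.eq_zero_iff_mem]
    simp only [e, map_sub, map_mul, map_pow, sub_eq_zero]
    set T := Ideal.Quotient.mk L t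
    calc T ^ (N + 1) * _ * (T ^ (N + 1) * _) = T * (T ^ (N + (N + 1)) * Ideal.Quotient.mk L c') * Ideal.Quotient.mk L c' := by ring
      _ = _ := by rw [← hc']; ring
  have hem : e ∉ m := by
    refine fun h => htm ?_
    have hTN : t ^ N - t ^ (N + (N + 1)) * c' ∈ m := hLm (by
      rw [← Ideal.Quotient.eq_zero_iff_mem, map_sub, map_mul, map_pow, map_pow, sub_eq_zero]; exact hc')
    have : t ^ N ∈ m := by
      have h2 : t ^ (N + (N + 1)) * c' ∈ m := by
        rw [pow_add, mul_assoc]; exact m.mul_mem_left _ h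
      simpa using m.add_mem hTN h2
    exact hm.isPrime.mem_of_pow_mem N this
  have he1 : 1 - e ∈ m := by
    have : e * (1 - e) ∈ m := by
      have := m.neg_mem (hLm hee)
      rwa [show e * (1 - e) = -(e * e - e) by ring]
    exact (hm.isPrime.mem_or_mem this).resolve_left hem
  refine ⟨e * g₁ + (1 - e), e * g₂, m.add_mem (m.mul_mem_left _ hg₁) he1, m.mul_mem_left _ hg₂, ?_⟩
  let x := e * g₁ + (1 - e)
  let y := e * g₂
  let Q := Ideal.span {x, y} ⊔ L
  have hxQ : x ∈ Q := Submodule.mem_sup_left (Ideal.subset_span (Or.inl rfl))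
  have hyQ : y ∈ Q := Submodule.mem_sup_left (Ideal.subset_span (Or.inr rfl))
  have hLQ : L ≤ Q := le_sup_right
  have heg : e * g₁ ∈ Q := by
    rw [show e * g₁ = e * x + (e * e - e) * (1 - g₁) by ring]
    exact Q.add_mem (Q.mul_mem_left _ hxQ) (Q.mul_mem_right _ (hLQ hee))
  have he : 1 - e ∈ Q := by
    rw [show 1 - e = x - e * g₁ by ring]
    exact Q.sub_mem hxQ heg
  have hg₁' : g₁ ∈ Q := by
    rw [show g₁ = e * g₁ + (1 - e) * g₁ by ring]
    exact Q.add_mem heg (Q.mul_mem_right _ he)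
  have hg₂' : g₂ ∈ Q := by
    rw [show g₂ = y + (1 - e) * g₂ by ring]
    exact Q.add_mem hyQ (Q.mul_mem_right _ he)
  have hQs : Q ⊔ Ideal.span {s} = ⊤ := by
    by_contra hne
    obtain ⟨p, hp, hle⟩ := Ideal.exists_le_maximal _ hne
    have hpm : p = m := by
      by_contra hpm
      refine hp.ne_top ((Ideal.eq_top_iff_one _).2 ?_)
      have hep : e ∈ p := p.mul_mem_right _ (p.pow_mem_of_mem (ht p hp (hLQ.trans (le_sup_left.trans hle)) hpm) _ (by omega))
      simpa using p.add_mem hep (le_sup_left.trans hle he)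
    exact hs (hpm ▸ hle (Submodule.mem_sup_right (Ideal.subset_span rfl)))
  intro r hr
  have hrQ : r ∈ Q := by
    obtain ⟨q, hq, w, hw, hqw⟩ := Submodule.mem_sup.1 (hQs.ge (Submodule.mem_top (x := (1 : B))))
    obtain ⟨a, rfl⟩ := Ideal.mem_span_singleton'.1 hw
    rw [show r = q * r + a * (s * r) by rw [← mul_assoc, ← add_mul, hqw, one_mul]]
    refine Q.add_mem (Q.mul_mem_right _ hq) (Q.mul_mem_left _ ?_)
    refine (Ideal.span_le.2 ?_ : Ideal.span {g₁, g₂} ≤ Q) (hsm r hr)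
    rintro _ (rfl | rfl)
    exacts [hg₁', hg₂']
  obtain ⟨a, ha, l, hl, hal⟩ := Submodule.mem_sup.1 hrQ
  obtain ⟨r₁, r₂, h12⟩ := Ideal.mem_span_pair.1 ha
  exact ⟨r₁, r₂, l, hl, by rw [← hal, ← h12]⟩

omit [IsNoetherianRing B] in
lemma isArtinianRing_sq [IsNoetherianRing B] (I : Ideal B) [IsArtinianRing (B ⧸ I)] :
    IsArtinianRing (B ⧸ I * I) := by
  rw [isArtinianRing_iff_isNoetherianRing_krullDimLE_zero]
  refine ⟨inferInstance, ?_⟩
  have h := (isArtinianRing_iff_isNoetherianRing_krullDimLE_zero.1 ‹IsArtinianRing (B ⧸ I)›).2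
  rw [Ring.krullDimLE_zero_iff] at h ⊢
  intro p hp
  let q := p.comap (Ideal.Quotient.mk (I * I))
  have hq : q.IsPrime := inferInstance
  have hIq : I ≤ q := by
    have : I * I ≤ q := fun a ha => by
      show Ideal.Quotient.mk (I * I) a ∈ p
      rw [Ideal.Quotient.eq_zero_iff_mem.2 ha]; exact p.zero_mem
    exact (hq.mul_le.1 this).elim id id
  haveI : (q.map (Ideal.Quotient.mk I)).IsPrime :=
    Ideal.map_isPrime_of_surjective Ideal.Quotient.mk_surjective (Ideal.mk_ker.trans_le hIq)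
  have hqmax : q.IsMaximal := by
    haveI := h (q.map (Ideal.Quotient.mk I)) inferInstance
    have e : q = (q.map (Ideal.Quotient.mk I)).comap (Ideal.Quotient.mk I) := by
      rw [Ideal.comap_map_of_surjective _ Ideal.Quotient.mk_surjective, eq_comm, sup_eq_left]
      exact Ideal.mk_ker.trans_le hIq
    rw [e]
    exact Ideal.comap_isMaximal_of_surjective _ Ideal.Quotient.mk_surjective
  have : (q.map (Ideal.Quotient.mk (I * I))) = p := Ideal.map_comap_of_surjective _ Ideal.Quotient.mk_surjective p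
  rw [← this]
  exact Ideal.IsMaximal.map_of_surjective_of_ker_le Ideal.Quotient.mk_surjective
    (Ideal.mk_ker.trans_le (Ideal.mul_le_inf.trans (inf_le_left.trans hIq)))

/-- A socle element. -/
theorem exists_socle (I : Ideal B) [IsArtinianRing (B ⧸ I)] (hI : I ≠ ⊤) :
    ∃ u m, m.IsMaximal ∧ I ≤ m ∧ u ∉ I ∧ ∀ r ∈ m, r * u ∈ I := by
  haveI : Nontrivial (B ⧸ I) := Ideal.Quotient.nontrivial_iff.2 hI
  obtain ⟨P, hP, -⟩ := exists_le_isAssociatedPrime_of_isNoetherianRing (B ⧸ I) (1 : B ⧸ I) one_ne_zero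
  rw [isAssociatedPrime_iff] at hP
  obtain ⟨hPp, v, rfl⟩ := hP
  obtain ⟨u, rfl⟩ := Ideal.Quotient.mk_surjective v
  haveI := hPp
  haveI := IsArtinianRing.isMaximal_of_isPrime ((⊥ : Submodule (B ⧸ I) (B ⧸ I)).colon {Ideal.Quotient.mk I u})
  refine ⟨u, ((⊥ : Submodule (B ⧸ I) (B ⧸ I)).colon {Ideal.Quotient.mk I u}).comap (Ideal.Quotient.mk I),
    Ideal.comap_isMaximal_of_surjective _ Ideal.Quotient.mk_surjective, fun a ha => ?_, fun hu => ?_, fun r hr => ?_⟩
  · rw [Ideal.mem_comap, Ideal.Quotient.eq_zero_iff_mem.2 ha]; exact zero_mem _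
  · refine hPp.ne_top ((Ideal.eq_top_iff_one _).2 ?_)
    simp [Submodule.mem_colon_singleton, Ideal.Quotient.eq_zero_iff_mem.2 hu]
  · simp only [Ideal.mem_comap, Submodule.mem_colon_singleton, smul_eq_mul, Submodule.mem_bot] at hr
    rwa [← map_mul, Ideal.Quotient.eq_zero_iff_mem] at hr

/-- `dim Hom(I, B/I) ≤ 2 dim B/I` when `B` is two-generated at the points of `I`. -/
theorem finrank_hom_le [IsAlgClosed k] (I₀ : Ideal B) [Module.Finite k (B ⧸ I₀)]
    (hgen : ∀ m : Ideal B, m.IsMaximal → I₀ ≤ m →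
      ∃ g₁ g₂ s, g₁ ∈ m ∧ g₂ ∈ m ∧ s ∉ m ∧ ∀ r ∈ m, s * r ∈ Ideal.span {g₁, g₂}) :
    Module.Finite k (↥I₀ →ₗ[B] B ⧸ I₀) ∧
      Module.finrank k (↥I₀ →ₗ[B] B ⧸ I₀) ≤ 2 * Module.finrank k (B ⧸ I₀) := by
  refine ⟨finite_hom _, ?_⟩
  haveI : IsArtinianRing (B ⧸ I₀) := IsArtinianRing.of_finite k _
  haveI := isArtinianRing_sq I₀
  suffices ∀ n (I : Ideal B), I₀ ≤ I → ∀ [Module.Finite k (B ⧸ I)], Module.finrank k (B ⧸ I) = n →
      Module.finrank k (↥I →ₗ[B] B ⧸ I₀) ≤ Module.finrank k (B ⧸ I₀) + n by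
    have := this _ I₀ le_rfl rfl
    omega
  intro n
  induction n using Nat.strong_induction_on with
  | _ n ih =>
  intro I hI _ hn
  by_cases h1 : (1 : B) ∈ I
  · let L : (↥I →ₗ[B] B ⧸ I₀) →ₗ[k] B ⧸ I₀ :=
      { toFun := fun φ => φ ⟨1, h1⟩, map_add' := fun _ _ => rfl, map_smul' := fun _ _ => rfl }
    refine (LinearMap.finrank_le_finrank_of_injective (f := L) fun φ ψ h => LinearMap.ext fun a => ?_).trans
      (Nat.le_add_right _ _)
    have ha : a = (a : B) • (⟨1, h1⟩ : ↥I) := Subtype.ext (by simp)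
    rw [ha, map_smul, map_smul]
    exact congrArg _ h
  · haveI : IsArtinianRing (B ⧸ I) := IsArtinianRing.of_finite k _
    obtain ⟨u, m, hm, hIm, hu, hum⟩ := exists_socle I fun h => h1 (h ▸ Submodule.mem_top)
    obtain ⟨g₁, g₂, s, hg₁, hg₂, hs, hsm⟩ := hgen m hm (hI.trans hIm)
    obtain ⟨x, y, hx, hy, hxy⟩ := exists_two_gen (I₀ * I₀) m hm (Ideal.mul_le_inf.trans (inf_le_left.trans (hI.trans hIm)))
      hg₁ hg₂ hs hsm
    haveI := hm
    letI := Ideal.Quotient.field m
    haveI : Module.Finite k (B ⧸ m) :=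
      Module.Finite.of_surjective (Ideal.Quotient.factorₐ k (hI.trans hIm)).toLinearMap
        (Ideal.Quotient.factor_surjective (hI.trans hIm))
    haveI : Algebra.IsIntegral k (B ⧸ m) := Algebra.IsIntegral.of_finite k _
    have hres : ∀ b : B, ∃ c : k, b - algebraMap k B c ∈ m := fun b => by
      obtain ⟨c, hc⟩ := (IsAlgClosed.algebraMap_bijective_of_isIntegral (k := k) (K := B ⧸ m)).2 (Ideal.Quotient.mk m b)
      exact ⟨c, by rw [← Ideal.Quotient.mk_eq_mk_iff_sub_mem, ← hc]; rfl⟩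
    have hle : I ≤ I ⊔ Ideal.span {u} := le_sup_left
    let π : (B ⧸ I) →ₗ[k] B ⧸ (I ⊔ Ideal.span {u}) := (Ideal.Quotient.factorₐ k hle).toLinearMap
    have hπ : Function.Surjective π := Ideal.Quotient.factor_surjective hle
    haveI : Module.Finite k (B ⧸ (I ⊔ Ideal.span {u})) := Module.Finite.of_surjective π hπ
    have hlt : Module.finrank k (B ⧸ (I ⊔ Ideal.span {u})) + 1 ≤ Module.finrank k (B ⧸ I) := by
      have h := LinearMap.finrank_range_add_finrank_ker π
      rw [LinearMap.range_eq_top.2 hπ, finrank_top] at h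
      have hk : 1 ≤ Module.finrank k ↥(LinearMap.ker π) := by
        refine Submodule.one_le_finrank_iff.2 (Submodule.ne_bot_iff _ |>.2 ⟨Ideal.Quotient.mk I u, ?_, ?_⟩)
        · exact LinearMap.mem_ker.2 (Ideal.Quotient.eq_zero_iff_mem.2 (Submodule.mem_sup_right (Ideal.subset_span rfl)))
        · exact fun h => hu (Ideal.Quotient.eq_zero_iff_mem.1 h)
      omega
    have h' := ih _ (by omega) (I ⊔ Ideal.span {u}) (hI.trans hle) rfl
    have := hom_step (k := k) (M := B ⧸ I₀)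
      (fun a ha z => by
        obtain ⟨z, rfl⟩ := Ideal.Quotient.mk_surjective z
        exact Ideal.Quotient.eq_zero_iff_mem.2 (I₀.mul_mem_right z ha))
      hI hm hxy hres ⟨1, fun z => by
        obtain ⟨z, rfl⟩ := Ideal.Quotient.mk_surjective z
        exact ⟨z, by show _ = Ideal.Quotient.mk I₀ (z * 1); rw [mul_one]⟩⟩ hu hum hx hy
    omega

end Groth.Agent.H27Fogarty.HomBound
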