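import Groth.Agent.H27HilbAff.Coord
import Mathlib

/-! # Hyperplanes in ideals of finite colength, in families -/

set_option autoImplicit false
set_option linter.style.haveILetI false

universe u

open TensorProduct

namespace Groth.Agent.H27Fogarty

open H27HilbAff (bc tilde)

variable {k : Type u} [Field k] {B : Type u} [CommRing B] [Algebra k B]
variable {A : Type u} [CommRing A] [Algebra k A]

/-- The extension of an ideal to `A ⊗ B`. -/
noncomputable abbrev ext (A : Type u) [CommRing A] [Algebra k A] (I : Ideal B) : Ideal (A ⊗[k] B) :=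
  I.map (Algebra.TensorProduct.includeRight : B →ₐ[k] A ⊗[k] B)

/-- Evaluation at a point. -/
noncomputable def evPt (x : B →ₐ[k] A) : A ⊗[k] B →ₐ[A] A :=
  Algebra.TensorProduct.lift (Algebra.ofId A A) x fun _ _ => Commute.all _ _

@[simp] lemma evPt_tmul (x : B →ₐ[k] A) (a : A) (b : B) : evPt x (a ⊗ₜ[k] b) = a * x b := by
  simp [evPt]

/-- The linear extension of a functional. -/
noncomputable abbrev lin (L : B →ₗ[k] A) : A ⊗[k] B →ₗ[A] A := L.liftBaseChange A

/-- `L` is semilinear along `x` on `I`. -/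
def IsSemi (I : Ideal B) (x : B →ₐ[k] A) (L : B →ₗ[k] A) : Prop := ∀ b, ∀ i ∈ I, L (b * i) = x b * L i

lemma isSemi_self (I : Ideal B) (x : B →ₐ[k] A) : IsSemi I x x.toLinearMap := fun b i _ => map_mul x b i

/-- The quotient map by an extended ideal. -/
noncomputable abbrev qI (A : Type u) [CommRing A] [Algebra k A] (I : Ideal B) : A ⊗[k] B →ₐ[A] A ⊗[k] (B ⧸ I) :=
  Algebra.TensorProduct.map (AlgHom.id A A) (Ideal.Quotient.mkₐ k I)

lemma qI_surjective (A : Type u) [CommRing A] [Algebra k A] (I : Ideal B) : Function.Surjective (qI (k := k) A I) := by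
  intro y
  induction y using TensorProduct.induction_on with
  | zero => exact ⟨0, map_zero _⟩
  | tmul a r =>
    obtain ⟨r, rfl⟩ := Ideal.Quotient.mk_surjective r
    exact ⟨a ⊗ₜ[k] r, Algebra.TensorProduct.map_tmul _ _ _ _⟩
  | add y y' hy hy' =>
    obtain ⟨x, rfl⟩ := hy
    obtain ⟨x', rfl⟩ := hy'
    exact ⟨x + x', map_add _ _ _⟩

lemma ker_qI (A : Type u) [CommRing A] [Algebra k A] (I : Ideal B) : RingHom.ker (qI (k := k) A I) = ext (k := k) A I := by
  refine (Algebra.TensorProduct.lTensor_ker (A := A) (Ideal.Quotient.mkₐ k I) Ideal.Quotient.mk_surjective).trans ?_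
  rw [show RingHom.ker (Ideal.Quotient.mkₐ k I) = I from Ideal.mk_ker]

lemma IsSemi.lin_mul {I : Ideal B} {x : B →ₐ[k] A} {L : B →ₗ[k] A} (h : IsSemi I x L) (w : A ⊗[k] B)
    {z : A ⊗[k] B} (hz : z ∈ ext (k := k) A I) : lin L (w * z) = evPt x w * lin L z := by
  induction hz using Submodule.span_induction generalizing w with
  | mem z hz =>
    obtain ⟨i, hi, rfl⟩ := hz
    induction w using TensorProduct.induction_on with
    | zero => simp
    | tmul a b =>
      show lin L (a ⊗ₜ[k] b * (1 : A) ⊗ₜ[k] i) = evPt x (a ⊗ₜ[k] b) * lin L ((1 : A) ⊗ₜ[k] i)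
      simp [h b i hi, mul_assoc]
    | add p q hp hq => simp only [add_mul, map_add, hp, hq]
  | zero => simp
  | add p q _ _ hp hq => simp only [mul_add, map_add, hp, hq]
  | smul c p _ hp => rw [smul_eq_mul, ← mul_assoc, hp, hp, map_mul, mul_assoc]

/-- The family of hyperplanes of `I` cut out by `L`. -/
noncomputable def hyper (I : Ideal B) (x : B →ₐ[k] A) (L : B →ₗ[k] A) (h : IsSemi I x L) : Ideal (A ⊗[k] B) where
  carrier := {z | z ∈ ext (k := k) A I ∧ lin L z = 0}
  add_mem' := fun ha hb => ⟨add_mem ha.1 hb.1, by rw [map_add, ha.2, hb.2, add_zero]⟩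
  zero_mem' := ⟨zero_mem _, map_zero _⟩
  smul_mem' := fun c z hz => ⟨Ideal.mul_mem_left _ c hz.1, by rw [smul_eq_mul, h.lin_mul c hz.1, hz.2, mul_zero]⟩

lemma mem_hyper {I : Ideal B} {x : B →ₐ[k] A} {L : B →ₗ[k] A} {h : IsSemi I x L} {z : A ⊗[k] B} :
    z ∈ hyper I x L h ↔ z ∈ ext (k := k) A I ∧ lin L z = 0 := Iff.rfl

/-- Union with a point. -/
noncomputable abbrev union (I : Ideal B) (x : B →ₐ[k] A) : Ideal (A ⊗[k] B) :=
  hyper I x x.toLinearMap (isSemi_self I x)

lemma lin_self (x : B →ₐ[k] A) (z : A ⊗[k] B) : lin x.toLinearMap z = evPt x z := by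
  induction z using TensorProduct.induction_on with
  | zero => simp
  | tmul a b => simp
  | add p q hp hq => simp only [map_add, hp, hq]

lemma union_eq (I : Ideal B) (x : B →ₐ[k] A) : union I x = ext (k := k) A I ⊓ RingHom.ker (evPt x) := by
  ext z
  rw [mem_hyper, Ideal.mem_inf, RingHom.mem_ker, lin_self]

/-- The family is finite free of rank one more. -/
theorem hyper_free [IsDomain A] [IsPrincipalIdealRing A] {I : Ideal B} [Module.Finite k (B ⧸ I)] {n : ℕ}
    (hn : Module.finrank k (B ⧸ I) = n) {x : B →ₐ[k] A} {L : B →ₗ[k] A} (h : IsSemi I x L)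
    (hb : ∃ i ∈ I, L i ≠ 0) :
    Module.Finite A ((A ⊗[k] B) ⧸ hyper I x L h) ∧ Module.Free A ((A ⊗[k] B) ⧸ hyper I x L h) ∧
      Module.finrank A ((A ⊗[k] B) ⧸ hyper I x L h) = n + 1 := by
  obtain ⟨i, hi, hi0⟩ := hb
  let E : A ⊗[k] B →ₗ[A] (A ⊗[k] (B ⧸ I)) × A := (qI (k := k) A I).toLinearMap.prod (lin L)
  have hker : LinearMap.ker E = (hyper I x L h).restrictScalars A := by
    ext z
    rw [LinearMap.mem_ker, Submodule.restrictScalars_mem, mem_hyper, ← ker_qI, RingHom.mem_ker]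
    exact Prod.ext_iff (x := E z) (y := 0)
  let e : ((A ⊗[k] B) ⧸ hyper I x L h) ≃ₗ[A] LinearMap.range E :=
    (Submodule.Quotient.restrictScalarsEquiv A (hyper I x L h)).symm ≪≫ₗ
      Submodule.quotEquivOfEq _ _ hker.symm ≪≫ₗ E.quotKerEquivRange
  haveI : Module.Finite A (LinearMap.range E) := Module.Finite.iff_fg.2 (IsNoetherian.noetherian _)
  haveI : Module.IsTorsionFree A (LinearMap.range E) := inferInstance
  haveI : Module.Free A (LinearMap.range E) := Module.free_of_finite_type_torsion_free' (R := A) (M := ↥(LinearMap.range E))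
  refine ⟨Module.Finite.equiv e.symm, Module.Free.of_equiv e.symm, ?_⟩
  rw [e.finrank_eq]
  have htot : Module.finrank A ((A ⊗[k] (B ⧸ I)) × A) = n + 1 := by
    rw [Module.finrank_prod, Module.finrank_baseChange, Module.finrank_self, hn]
  refine le_antisymm (htot ▸ Submodule.finrank_le _) ?_
  have hrange : ∀ t, L i • t ∈ LinearMap.range E := by
    intro t
    obtain ⟨z, hz⟩ := qI_surjective A I t.1
    refine ⟨L i • z + (t.2 - lin L z) • ((1 : A) ⊗ₜ[k] i), ?_⟩
    have hq : qI (k := k) A I ((1 : A) ⊗ₜ[k] i) = 0 := by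
      rw [← RingHom.mem_ker, ker_qI]
      exact Ideal.mem_map_of_mem _ hi
    refine Prod.ext ?_ ?_
    · show qI (k := k) A I (L i • z + (t.2 - lin L z) • ((1 : A) ⊗ₜ[k] i)) = L i • t.1
      rw [map_add, map_smul, map_smul, hq, hz, smul_zero, add_zero]
    · show lin L (L i • z + (t.2 - lin L z) • ((1 : A) ⊗ₜ[k] i)) = L i • t.2
      simp only [map_add, map_smul, LinearMap.liftBaseChange_tmul, one_smul, smul_eq_mul]
      ring
  rw [← htot]
  refine LinearMap.finrank_le_finrank_of_injective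
    (f := ((L i) • (LinearMap.id : (A ⊗[k] (B ⧸ I)) × A →ₗ[A] _)).codRestrict _ hrange) fun t t' ht => ?_
  exact smul_right_injective _ hi0 (congrArg Subtype.val ht)

variable {A' : Type u} [CommRing A'] [Algebra k A'] (ψ : A →ₐ[k] A')

lemma map_ext (I : Ideal B) : (ext (k := k) A I).map (bc ψ) = ext (k := k) A' I := by
  refine (Ideal.map_map _ _).trans (congrArg (fun φ : B →+* A' ⊗[k] B => Ideal.map φ I) ?_)
  ext b
  show bc ψ ((1 : A) ⊗ₜ[k] b) = (1 : A') ⊗ₜ[k] b
  simp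

lemma lin_bc {L : B →ₗ[k] A} {L' : B →ₗ[k] A'} (hL : ∀ b, L' b = ψ (L b)) (z : A ⊗[k] B) :
    lin L' (bc ψ z) = ψ (lin L z) := by
  induction z using TensorProduct.induction_on with
  | zero => simp
  | tmul a b => simp [hL]
  | add p q hp hq => simp only [map_add, hp, hq]

lemma map_hyper_le {I : Ideal B} {x : B →ₐ[k] A} {L : B →ₗ[k] A} (h : IsSemi I x L) {x' : B →ₐ[k] A'}
    {L' : B →ₗ[k] A'} (h' : IsSemi I x' L') (hL : ∀ b, L' b = ψ (L b)) :
    (hyper I x L h).map (bc ψ) ≤ hyper I x' L' h' := by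
  rw [Ideal.map_le_iff_le_comap]
  intro z hz
  rw [Ideal.mem_comap, mem_hyper, lin_bc ψ hL, hz.2, map_zero]
  exact ⟨map_ext ψ I ▸ Ideal.mem_map_of_mem _ hz.1, rfl⟩

/-- Over `k` every ideal is extended. -/
lemma exists_eq_ext (K : Ideal (k ⊗[k] B)) :
    ext k (K.comap (Algebra.TensorProduct.includeRight : B →ₐ[k] k ⊗[k] B)) = K := by
  refine Ideal.map_comap_of_surjective _ (fun z => ?_) K
  induction z using TensorProduct.induction_on with
  | zero => exact ⟨0, map_zero _⟩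
  | tmul a b => exact ⟨a • b, by
      show (1 : k) ⊗ₜ[k] (a • b) = a ⊗ₜ[k] b
      rw [TensorProduct.tmul_smul, TensorProduct.smul_tmul', smul_eq_mul, mul_one]⟩
  | add p q hp hq =>
    obtain ⟨u, rfl⟩ := hp
    obtain ⟨v, rfl⟩ := hq
    exact ⟨u + v, map_add _ _ _⟩

lemma mem_ext_iff (I : Ideal B) (b : B) : (1 : k) ⊗ₜ[k] b ∈ ext (k := k) k I ↔ b ∈ I := by
  refine ⟨fun h => ?_, fun h => Ideal.mem_map_of_mem _ h⟩
  rw [← ker_qI, RingHom.mem_ker] at h
  have h2 := congrArg (Algebra.TensorProduct.lid k (B ⧸ I)) h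
  rw [map_zero, Algebra.TensorProduct.map_tmul] at h2
  exact Ideal.Quotient.eq_zero_iff_mem.1 (by simpa using h2)

/-- The limit of unions with a moving point keeps the residual point. -/
lemma mem_map_union {I : Ideal B} (x : B →ₐ[k] A) (ρ : A →ₐ[k] k) {i b : B} (hi : i ∈ I) (hb : ρ (x b) = 0) :
    (1 : k) ⊗ₜ[k] (i * b) ∈ (union I x).map (bc ρ) := by
  have hmem : ((1 : A) ⊗ₜ[k] i) * ((1 : A) ⊗ₜ[k] b - x b ⊗ₜ[k] (1 : B)) ∈ union I x := by
    rw [union_eq]
    refine ⟨Ideal.mul_mem_right _ _ (Ideal.mem_map_of_mem _ hi), ?_⟩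
    rw [SetLike.mem_coe, RingHom.mem_ker, map_mul, map_sub]
    simp
  have := Ideal.mem_map_of_mem (bc (B := B) ρ) hmem
  simpa [hb] using this

/-- A colength one residual point of an ideal of finite colength. -/
theorem exists_residual [IsAlgClosed k] (J : Ideal B) [Module.Finite k (B ⧸ J)] (hJ : J ≠ ⊤) :
    ∃ (I : Ideal B) (pt : B →ₐ[k] k), J ≤ I ∧ J ≤ RingHom.ker pt ∧ I * RingHom.ker pt ≤ J ∧
      Module.finrank k (B ⧸ I) + 1 = Module.finrank k (B ⧸ J) := by
  classical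
  haveI : Module.Finite k ↥((⊤ : Submodule k (B ⧸ J))) := inferInstance
  haveI : IsArtinianRing (B ⧸ J) := IsArtinianRing.of_finite k (B ⧸ J)
  haveI : Nontrivial (B ⧸ J) := Ideal.Quotient.nontrivial_iff.2 hJ
  obtain ⟨S, hS⟩ := IsAtomic.exists_atom (Ideal (B ⧸ J))
  obtain ⟨w, hwS, hw0⟩ := Submodule.exists_mem_ne_zero_of_ne_bot hS.1
  let Ann : Ideal B := (Submodule.span (B ⧸ J) {w}).annihilator.comap (Ideal.Quotient.mk J)
  have hAnn : ∀ b, b ∈ Ann ↔ Ideal.Quotient.mk J b * w = 0 := fun b => by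
    rw [Ideal.mem_comap, Submodule.mem_annihilator_span_singleton, smul_eq_mul]
  have hmax : Ann.IsMaximal := by
    rw [Ideal.isMaximal_iff]
    refine ⟨fun h => hw0 (by simpa using (hAnn 1).1 h), fun K b hle hb hbK => ?_⟩
    have hspan : Ideal.span {Ideal.Quotient.mk J b * w} = S := by
      rcases hS.le_iff.1 ((Ideal.span_singleton_le_iff_mem _).2 (S.mul_mem_left _ hwS)) with h | h
      · exact absurd ((hAnn b).2 (Ideal.span_singleton_eq_bot.1 h)) hb
      · exact h
    obtain ⟨c, hc⟩ := Ideal.mem_span_singleton'.1 (hspan.ge hwS)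
    obtain ⟨c, rfl⟩ := Ideal.Quotient.mk_surjective c
    have h1 : 1 - c * b ∈ Ann := (hAnn _).2 (by rw [map_sub, map_one, map_mul]; linear_combination -hc)
    have := add_mem (hle h1) (K.mul_mem_left c hbK)
    rwa [sub_add_cancel] at this
  have hJA : J ≤ Ann := fun z hz => (hAnn z).2 (by rw [Ideal.Quotient.eq_zero_iff_mem.2 hz, zero_mul])
  haveI : Module.Finite k (B ⧸ Ann) :=
    Module.Finite.of_surjective (Ideal.Quotient.factorₐ k hJA).toLinearMap (Ideal.Quotient.factor_surjective hJA)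
  letI := Ideal.Quotient.field Ann
  haveI : Algebra.IsIntegral k (B ⧸ Ann) := Algebra.IsIntegral.of_finite k _
  let e := AlgEquiv.ofBijective (Algebra.ofId k (B ⧸ Ann)) IsAlgClosed.algebraMap_bijective_of_isIntegral
  let pt : B →ₐ[k] k := e.symm.toAlgHom.comp (Ideal.Quotient.mkₐ k Ann)
  have hpt : RingHom.ker pt = Ann := by
    ext b
    rw [RingHom.mem_ker]
    show e.symm (Ideal.Quotient.mk Ann b) = 0 ↔ _
    rw [map_eq_zero_iff _ e.symm.injective, Ideal.Quotient.eq_zero_iff_mem]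
  have hscal : ∀ c : B ⧸ J, ∃ a : k, c * w = a • w := by
    intro c
    obtain ⟨c, rfl⟩ := Ideal.Quotient.mk_surjective c
    refine ⟨pt c, ?_⟩
    have : c - algebraMap k B (pt c) ∈ Ann := by
      rw [← hpt, RingHom.mem_ker, map_sub, pt.commutes]
      exact sub_self _
    have h2 := (hAnn _).1 this
    rw [map_sub, sub_mul, sub_eq_zero] at h2
    rw [h2, Algebra.smul_def]
    rfl
  have hSw : S = Ideal.span {w} := ((hS.le_iff.1 ((Ideal.span_singleton_le_iff_mem _).2 hwS)).resolve_left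
    (mt Ideal.span_singleton_eq_bot.1 hw0)).symm
  have hSk : S.restrictScalars k = Submodule.span k {w} := by
    refine le_antisymm (fun z hz => ?_) ((Submodule.span_singleton_le_iff_mem _ _).2 hwS)
    rw [Submodule.restrictScalars_mem, hSw, Ideal.mem_span_singleton'] at hz
    obtain ⟨c, rfl⟩ := hz
    obtain ⟨a, ha⟩ := hscal c
    rw [ha]
    exact Submodule.smul_mem _ _ (Submodule.mem_span_singleton_self w)
  refine ⟨S.comap (Ideal.Quotient.mk J), pt, fun z hz => ?_, hpt ▸ hJA, Ideal.mul_le.2 fun i hi b hb => ?_, ?_⟩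
  · rw [Ideal.mem_comap, Ideal.Quotient.eq_zero_iff_mem.2 hz]
    exact zero_mem _
  · rw [hpt, hAnn] at hb
    rw [Ideal.mem_comap, hSw, Ideal.mem_span_singleton'] at hi
    obtain ⟨c, hc⟩ := hi
    rw [← Ideal.Quotient.eq_zero_iff_mem, map_mul, ← hc]
    linear_combination c * hb
  · let q : B →ₐ[k] (B ⧸ J) ⧸ S := (Ideal.Quotient.mkₐ k S).comp (Ideal.Quotient.mkₐ k J)
    have hq : RingHom.ker q = S.comap (Ideal.Quotient.mk J) := by
      ext b
      rw [RingHom.mem_ker, Ideal.mem_comap]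
      exact Ideal.Quotient.eq_zero_iff_mem
    rw [← hq, (Ideal.quotientKerAlgEquivOfSurjective (f := q)
        ((Ideal.Quotient.mkₐ_surjective k S).comp (Ideal.Quotient.mkₐ_surjective k J))).toLinearEquiv.finrank_eq,
      ← (Submodule.Quotient.restrictScalarsEquiv k S).finrank_eq,
      ← (S.restrictScalars k).finrank_quotient_add_finrank, hSk, finrank_span_singleton hw0]

/-- Over a field an inclusion of equal colengths is an equality. -/
theorem eq_of_le_of_finrank {R : Type u} [CommRing R] [Algebra k R] {J J' : Ideal R} (h : J ≤ J')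
    [Module.Finite k (R ⧸ J)] (e : Module.finrank k (R ⧸ J) = Module.finrank k (R ⧸ J')) : J = J' := by
  let f : R ⧸ J →ₐ[k] R ⧸ J' := Ideal.Quotient.factorₐ k h
  have hs : Function.Surjective f := Ideal.Quotient.factor_surjective h
  haveI : Module.Finite k (R ⧸ J') := Module.Finite.of_surjective f.toLinearMap hs
  have hi : Function.Injective f.toLinearMap :=
    (LinearMap.injective_iff_surjective_of_finrank_eq_finrank e).2 hs
  refine le_antisymm h fun z hz => Ideal.Quotient.eq_zero_iff_mem.1 (hi ?_)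
  rw [map_zero]
  exact Ideal.Quotient.eq_zero_iff_mem.2 hz

/-- Normalised functional cutting a hyperplane. -/
theorem exists_functional {I J : Ideal B} (hJI : J ≤ I) [Module.Finite k (B ⧸ J)]
    (e : Module.finrank k (B ⧸ I) + 1 = Module.finrank k (B ⧸ J)) (u : B) (huI : u ∈ I) (hu : u ∉ J) :
    ∃ l : B →ₗ[k] k, l u = 1 ∧ (∀ z ∈ J, l z = 0) ∧ ∀ z ∈ I, l z = 0 → z ∈ J := by
  obtain ⟨l, hlu, hl⟩ := Submodule.exists_dual_map_eq_bot_of_notMem
    (p := J.restrictScalars k) hu inferInstance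
  have hlJ : ∀ z ∈ J, l z = 0 := fun z hz => (Submodule.mem_bot k).1 (hl ▸ Submodule.mem_map_of_mem hz)
  refine ⟨(l u)⁻¹ • l, by simp [inv_mul_cancel₀ hlu], fun z hz => by simp [hlJ z hz], fun z hz hz0 => ?_⟩
  have hz0' : l z = 0 := by simpa [hlu] using hz0
  -- the image of `I` in `B ⧸ J` is a line
  let f : B ⧸ J →ₗ[k] B ⧸ I := (Ideal.Quotient.factorₐ k hJI).toLinearMap
  have hf : Function.Surjective f := Ideal.Quotient.factor_surjective hJI
  have h1 := f.finrank_range_add_finrank_ker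
  rw [LinearMap.range_eq_top.2 hf, finrank_top] at h1
  have hline : LinearMap.ker f = Submodule.span k {Ideal.Quotient.mk J u} := by
    refine (Submodule.eq_of_le_of_finrank_le ((Submodule.span_singleton_le_iff_mem _ _).2 ?_) ?_).symm
    · exact LinearMap.mem_ker.2 (Ideal.Quotient.eq_zero_iff_mem.2 huI)
    · rw [finrank_span_singleton (fun h => hu (Ideal.Quotient.eq_zero_iff_mem.1 h))]
      omega
  have hzk : Ideal.Quotient.mk J z ∈ Submodule.span k {Ideal.Quotient.mk J u} :=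
    hline ▸ LinearMap.mem_ker.2 (Ideal.Quotient.eq_zero_iff_mem.2 hz)
  obtain ⟨a, ha⟩ := Submodule.mem_span_singleton.1 hzk
  have hd : a • u - z ∈ J := Ideal.Quotient.eq.1 ha
  have := hlJ _ hd
  rw [map_sub, map_smul, hz0', sub_zero, smul_eq_zero] at this
  rw [this.resolve_right hlu, zero_smul, zero_sub, neg_mem_iff] at hd
  exact hd

open Polynomial in
/-- The pencil joining two hyperplanes of `I` with the same residual point. -/
theorem exists_pencil (pt : B →ₐ[k] k) {I J₁ J₂ : Ideal B} [Module.Finite k (B ⧸ J₁)] [Module.Finite k (B ⧸ J₂)]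
    {n : ℕ} (hn : Module.finrank k (B ⧸ I) = n) (h₁ : J₁ ≤ I) (h₂ : J₂ ≤ I)
    (e₁ : Module.finrank k (B ⧸ J₁) = n + 1) (e₂ : Module.finrank k (B ⧸ J₂) = n + 1)
    (m₁ : I * RingHom.ker pt ≤ J₁) (m₂ : I * RingHom.ker pt ≤ J₂) :
    ∃ 𝒦 : Ideal (k[X] ⊗[k] B), (Module.Finite k[X] ((k[X] ⊗[k] B) ⧸ 𝒦) ∧ Module.Free k[X] ((k[X] ⊗[k] B) ⧸ 𝒦) ∧
        Module.finrank k[X] ((k[X] ⊗[k] B) ⧸ 𝒦) = n + 1) ∧
      𝒦.map (bc (aeval (0 : k))) ≤ ext (k := k) k J₁ ∧ 𝒦.map (bc (aeval (1 : k))) ≤ ext (k := k) k J₂ := by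
  haveI : Module.Finite k (B ⧸ I) := Module.Finite.of_surjective (Ideal.Quotient.factorₐ k h₁).toLinearMap
    (Ideal.Quotient.factor_surjective h₁)
  obtain ⟨u, huI, hu₁, hu₂⟩ : ∃ u ∈ I, u ∉ J₁ ∧ u ∉ J₂ := by
    have hne : ∀ J : Ideal B, J ≤ I → Module.finrank k (B ⧸ J) = n + 1 → ∃ a ∈ I, a ∉ J := fun J hJ e => by
      by_contra! hc
      rw [le_antisymm hJ hc] at e
      omega
    obtain ⟨a, haI, ha⟩ := hne _ h₁ e₁
    obtain ⟨b, hbI, hb⟩ := hne _ h₂ e₂
    by_cases ha2 : a ∈ J₂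
    · by_cases hb1 : b ∈ J₁
      · refine ⟨a + b, add_mem haI hbI, fun h => ha ?_, fun h => hb ?_⟩
        · simpa using sub_mem h hb1
        · simpa using sub_mem h ha2
      · exact ⟨b, hbI, hb1, hb⟩
    · exact ⟨a, haI, ha, ha2⟩
  obtain ⟨l₁, hl₁u, hl₁, hl₁'⟩ := exists_functional (k := k) h₁ (by omega) u huI hu₁
  obtain ⟨l₂, hl₂u, hl₂, hl₂'⟩ := exists_functional (k := k) h₂ (by omega) u huI hu₂
  have hsemi : ∀ (J : Ideal B) (l : B →ₗ[k] k), I * RingHom.ker pt ≤ J → (∀ z ∈ J, l z = 0) → IsSemi I pt l := by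
    intro J l hm hl b i hi
    have hb : b - algebraMap k B (pt b) ∈ RingHom.ker pt := by
      rw [RingHom.mem_ker, map_sub, pt.commutes]
      exact sub_self _
    have := hl _ (hm (Ideal.mul_mem_mul hi hb))
    rw [mul_sub, map_sub, sub_eq_zero, mul_comm i b, mul_comm i _, ← Algebra.smul_def, map_smul, smul_eq_mul] at this
    exact this
  have s₁ := hsemi J₁ l₁ m₁ hl₁
  have s₂ := hsemi J₂ l₂ m₂ hl₂
  let c := IsScalarTower.toAlgHom k k k[X]
  let L : B →ₗ[k] k[X] := ((1 : k[X]) - X) • c.toLinearMap.comp l₁ + (X : k[X]) • c.toLinearMap.comp l₂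
  have hL : IsSemi I (c.comp pt) L := by
    intro b i hi
    simp only [L, LinearMap.add_apply, LinearMap.smul_apply, LinearMap.comp_apply, AlgHom.toLinearMap_apply,
      s₁ b i hi, s₂ b i hi, map_mul, smul_eq_mul, AlgHom.comp_apply]
    ring
  refine ⟨hyper I (c.comp pt) L hL, hyper_free hn hL ⟨u, huI, ?_⟩, ?_, ?_⟩
  · simp [L, hl₁u, hl₂u, c]
  · refine (map_hyper_le _ hL s₁ fun b => ?_).trans ?_
    · simp [L, c]
    · intro z hz
      rw [← exists_eq_ext (k := k) (B := B) (hyper I pt l₁ s₁)] at hz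
      refine Ideal.map_mono (fun w hw => ?_) hz
      obtain ⟨hw1, hw2⟩ := mem_hyper.1 (Ideal.mem_comap.1 hw)
      exact hl₁' w ((mem_ext_iff I w).1 hw1) (by simpa using hw2)
  · refine (map_hyper_le _ hL s₂ fun b => ?_).trans ?_
    · simp [L, c]
    · intro z hz
      rw [← exists_eq_ext (k := k) (B := B) (hyper I pt l₂ s₂)] at hz
      refine Ideal.map_mono (fun w hw => ?_) hz
      obtain ⟨hw1, hw2⟩ := mem_hyper.1 (Ideal.mem_comap.1 hw)
      exact hl₂' w ((mem_ext_iff I w).1 hw1) (by simpa using hw2)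

end Groth.Agent.H27Fogarty
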