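import Groth.Agent.H27Fogarty.AddPt
import Groth.Agent.H27Fogarty.Family
import Groth.Agent.H27Fogarty.CurveDvr
import Groth.Agent.H17.Reduced
import Mathlib

/-! # Limits of a moving point and pencils inside the Hilbert scheme -/

set_option autoImplicit false
set_option linter.style.haveILetI false
set_option backward.isDefEq.respectTransparency false
set_option backward.isDefEq.respectTransparency.types false

universe u

open CategoryTheory CategoryTheory.Limits AlgebraicGeometry TensorProduct CommRingCat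

namespace Groth.Agent.H27Fogarty

open H27HilbOps H27HilbAff

variable {k : Type u} [Field k] {X : Scheme.{u}} (f : X ⟶ Spec (CommRingCat.of k))

lemma TP_hom_self : (TP k k).hom = 𝟙 (Spec (CommRingCat.of k)) := by
  show (Spec.map (ofHom (algebraMap k k)) ≫ 𝟙 _) ≫ 𝟙 _ = 𝟙 _
  rw [Category.comp_id, Category.comp_id, ← Spec.map_id]
  rfl

lemma point_w {H : Over (Spec (CommRingCat.of k))} (a : TP k k ⟶ H) :
    a.left ≫ H.hom = 𝟙 (Spec (CommRingCat.of k)) :=
  (Over.w a).trans TP_hom_self

/-- The fibre over a rational point. -/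
noncomputable def slice {H : Over (Spec (CommRingCat.of k))} (a : TP k k ⟶ H) : X ⟶ PicF.XT f H :=
  pullback.lift (𝟙 X) (f ≫ a.left) (by
    rw [Category.id_comp]
    exact ((congrArg (f ≫ ·) (point_w a)).trans (Category.comp_id f)).symm.trans (Category.assoc _ _ _).symm)

/-- The component of a rational point. -/
noncomputable def comp {H' : Over (Spec (CommRingCat.of k))} (b : TP k k ⟶ H') :
    _root_.ConnectedComponents H'.left :=
  _root_.ConnectedComponents.mk (b.left (IsLocalRing.closedPoint k))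

lemma mk_eq_of_specializes {α : Type*} [TopologicalSpace α] {a b : α} (h : a ⤳ b) :
    _root_.ConnectedComponents.mk a = _root_.ConnectedComponents.mk b :=
  (_root_.ConnectedComponents.coe_eq_coe'.mpr
    (isClosed_connectedComponent.closure_subset_iff.2 (Set.singleton_subset_iff.2 mem_connectedComponent)
      h.mem_closure)).symm

variable [IsSeparated f] {B : Type u} [CommRing B] [Algebra k B] (j : Spec (CommRingCat.of B) ⟶ X)
  [IsOpenImmersion j] (hw : j ≫ f = fB (R := k) (B := B) (𝟙 (Spec (CommRingCat.of k))) ≫ 𝟙 (Spec (CommRingCat.of k)))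

variable {n : ℕ}

/-- A family over a connected base joins the points it specialises to. -/
theorem comp_eq_of_family {H' : Over (Spec (CommRingCat.of k))} (Z' : HilbD.Obj f n H')
    (hZ' : HilbD.IsUniversal f n H' Z') {A : Type u} [CommRing A] [Algebra k A] [IsNoetherianRing A]
    [PreconnectedSpace (PrimeSpectrum A)] (K : Ideal (A ⊗[k] B))
    (h : Module.Finite A ((A ⊗[k] B) ⧸ K) ∧ Module.Free A ((A ⊗[k] B) ⧸ K) ∧
      Module.finrank A ((A ⊗[k] B) ⧸ K) = n)
    {K' : Type u} [Field K'] [Algebra k K'] (ψ : A →ₐ[k] k) (ψ' : A →ₐ[k] K')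
    (b : TP k k ⟶ H') (b' : TP k K' ⟶ H')
    (hb : HilbD.pull f b Z'.1 = fam f j hw (K.map (bc ψ)))
    (hb' : HilbD.pull f b' Z'.1 = fam f j hw (K.map (bc ψ'))) :
    comp b = _root_.ConnectedComponents.mk (b'.left (IsLocalRing.closedPoint K')) := by
  obtain ⟨a, ha, -⟩ := hZ' (TP k A) (famObj f j hw K h)
  have hpull : ∀ {K'' : Type u} [Field K''] [Algebra k K''] (φ : A →ₐ[k] K'') (c : TP k K'' ⟶ H'),
      HilbD.pull f c Z'.1 = fam f j hw (K.map (bc φ)) → TPmap φ ≫ a = c := fun φ c hc => by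
    refine (hZ' _ (pullObj f c Z')).unique ?_ rfl
    show HilbD.pull f _ _ = HilbD.pull f c Z'.1
    rw [pull_comp, hc, ha, famObj_val, pull_fam f j hw K h φ]
  rw [comp, ← hpull ψ b hb, ← hpull ψ' b' hb']
  haveI : PreconnectedSpace (TP k A).left := inferInstanceAs (PreconnectedSpace (PrimeSpectrum A))
  exact _root_.ConnectedComponents.coe_eq_coe'.mpr
    ((isPreconnected_range a.left.continuous).subset_connectedComponent ⟨_, rfl⟩ ⟨_, rfl⟩)

variable [IsAlgClosed k]

/-- Two residual hyperplanes at the same point lie in the same component. -/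
theorem comp_eq_of_pencil {H' : Over (Spec (CommRingCat.of k))} (Z' : HilbD.Obj f (n + 1) H')
    (hZ' : HilbD.IsUniversal f (n + 1) H' Z') (pt : B →ₐ[k] k) {I J₁ J₂ : Ideal B}
    [Module.Finite k (B ⧸ J₁)] [Module.Finite k (B ⧸ J₂)] (hn : Module.finrank k (B ⧸ I) = n)
    (h₁ : J₁ ≤ I) (h₂ : J₂ ≤ I)
    (e₁ : Module.finrank k (B ⧸ J₁) = n + 1) (e₂ : Module.finrank k (B ⧸ J₂) = n + 1)
    (m₁ : I * RingHom.ker pt ≤ J₁) (m₂ : I * RingHom.ker pt ≤ J₂) (b₁ b₂ : TP k k ⟶ H')
    (hb₁ : HilbD.pull f b₁ Z'.1 = fam f j hw (ext k J₁)) (hb₂ : HilbD.pull f b₂ Z'.1 = fam f j hw (ext k J₂)) :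
    comp b₁ = comp b₂ := by
  classical
  obtain ⟨𝒦, hfree, hle₁, hle₂⟩ := exists_pencil pt hn h₁ h₂ e₁ e₂ m₁ m₂
  have hext : ∀ (J : Ideal B), Module.finrank k (B ⧸ J) = n + 1 →
      Module.finrank k ((k ⊗[k] B) ⧸ ext (k := k) k J) = n + 1 := by
    intro J e
    rw [← ker_qI (k := k) k J, (Ideal.quotientKerAlgEquivOfSurjective (qI_surjective (k := k) k J)).toLinearEquiv.finrank_eq,
      Module.finrank_baseChange, e]
  have heq : ∀ (J : Ideal B), Module.finrank k (B ⧸ J) = n + 1 → ∀ (ψ : Polynomial k →ₐ[k] k),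
      𝒦.map (bc ψ) ≤ ext k J → 𝒦.map (bc ψ) = ext k J := fun J e ψ hle => by
    obtain ⟨_, _, hr⟩ := map_rank 𝒦 hfree ψ
    exact eq_of_le_of_finrank (k := k) hle (hr.trans (hext J e).symm)
  exact (comp_eq_of_family f j hw Z' hZ' 𝒦 hfree (Polynomial.aeval 0) (Polynomial.aeval 1) b₁ b₂
    (by rw [hb₁, heq J₁ e₁ _ hle₁]) (by rw [hb₂, heq J₂ e₂ _ hle₂]))

/-- Adding to a family a point moving along a branch through `pt` has a limit. -/
theorem exists_limit [Algebra.FiniteType k B] {H : Over (Spec (CommRingCat.of k))} (Z : HilbD.Obj f n H)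
    {H' : Over (Spec (CommRingCat.of k))} (Z' : HilbD.Obj f (n + 1) H')
    (hZ' : HilbD.IsUniversal f (n + 1) H' Z') (Φ : pairs f H Z ⟶ H')
    (hΦ : HilbD.pull f Φ Z'.1 =
      HilbD.pull f (forgetPt f H Z) Z.1 * HilbD.secGraph f (pairs f H Z) (thePt f H Z) (thePt_w f H Z))
    (a : TP k k ⟶ H) (I : Ideal B) [Module.Finite k (B ⧸ I)] (hn : Module.finrank k (B ⧸ I) = n)
    (hI : HilbD.pull f a Z.1 = fam f j hw (ext k I))
    (q₀ : Ideal B) [q₀.IsPrime] (pt : B →ₐ[k] k) (hlt : q₀ < RingHom.ker pt) :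
    ∃ (J : Ideal B) (_ : Module.Finite k (B ⧸ J)) (b : TP k k ⟶ H')
      (hu : slice f a (j (⟨q₀, inferInstance⟩ : PrimeSpectrum B)) ∈ pairOpen f H Z),
      Module.finrank k (B ⧸ J) = n + 1 ∧ J ≤ I ∧ I * RingHom.ker pt ≤ J ∧
        HilbD.pull f b Z'.1 = fam f j hw (ext k J) ∧
        comp b = _root_.ConnectedComponents.mk (Φ.left ⟨_, hu⟩) := by
  classical
  obtain ⟨R, _, _, _, _, x, ρ, hρ, hq₀, hnot⟩ := exists_trait q₀ pt hlt
  -- the moving point is outside
  have hb : ∃ i ∈ I, x.toLinearMap i ≠ 0 := by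
    by_contra! hc
    refine hnot ?_
    have hle : I ≤ RingHom.ker x := fun i hi => RingHom.mem_ker.2 (hc i hi)
    haveI : IsArtinianRing (B ⧸ I) := IsArtinianRing.of_finite k (B ⧸ I)
    haveI : (RingHom.ker x).IsPrime := RingHom.ker_isPrime _
    haveI := Ideal.map_isPrime_of_surjective (f := Ideal.Quotient.mk I) Ideal.Quotient.mk_surjective
      (I := RingHom.ker x) (by rwa [Ideal.mk_ker])
    have hmax : ((RingHom.ker x).map (Ideal.Quotient.mk I)).IsMaximal := IsArtinianRing.isMaximal_of_isPrime _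
    have hcm : ((RingHom.ker x).map (Ideal.Quotient.mk I)).comap (Ideal.Quotient.mk I) = RingHom.ker x := by
      rw [Ideal.comap_map_of_surjective _ Ideal.Quotient.mk_surjective]
      exact sup_eq_left.2 fun z hz => hle (Ideal.Quotient.eq_zero_iff_mem.1 (Ideal.mem_comap.1 hz))
    have hxmax : (RingHom.ker x).IsMaximal := hcm ▸ Ideal.comap_isMaximal_of_surjective _ Ideal.Quotient.mk_surjective
    refine le_of_eq (hxmax.eq_of_le ?_ fun z hz => ?_).symm
    · exact (RingHom.ker_isPrime _).ne_top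
    · rw [RingHom.mem_ker, ← hρ, AlgHom.comp_apply, RingHom.mem_ker.1 hz, map_zero]
  let c := IsScalarTower.toAlgHom k R (FractionRing R)
  let xK : B →ₐ[k] FractionRing R := c.comp x
  have hcinj : Function.Injective c := IsFractionRing.injective R (FractionRing R)
  obtain ⟨i₀, hi₀, hxi₀⟩ := hb
  have hxK : xK i₀ ≠ 0 := fun h0 => hxi₀ (hcinj (h0.trans (map_zero c).symm))
  have hfree := hyper_free (A := R) hn (isSemi_self I x) ⟨i₀, hi₀, hxi₀⟩
  -- special point
  let J : Ideal B := ((union I x).map (bc ρ)).comap (Algebra.TensorProduct.includeRight : B →ₐ[k] k ⊗[k] B)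
  have hJ : ext k J = (union I x).map (bc ρ) := exists_eq_ext _
  obtain ⟨hfin, -, hrank⟩ := map_rank (union I x) hfree ρ
  let e : ((k ⊗[k] B) ⧸ (union I x).map (bc ρ)) ≃ₐ[k] k ⊗[k] (B ⧸ J) :=
    (Ideal.quotientEquivAlgOfEq k (hJ.symm.trans (ker_qI k J).symm)).trans
      (Ideal.quotientKerAlgEquivOfSurjective (qI_surjective k J))
  haveI : Module.Finite k (k ⊗[k] (B ⧸ J)) := Module.Finite.equiv e.toLinearEquiv
  haveI : Module.Finite k (B ⧸ J) := Module.Finite.equiv (TensorProduct.lid k (B ⧸ J))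
  have hJrank : Module.finrank k (B ⧸ J) = n + 1 := by
    rw [← (TensorProduct.lid k (B ⧸ J)).finrank_eq, ← e.toLinearEquiv.finrank_eq, hrank]
  obtain ⟨b, hb0, -⟩ := hZ' (TP k k) (famObj f j hw _ (map_rank (union I x) hfree ρ))
  -- generic point
  obtain ⟨hfinK, -, hrankK⟩ := map_rank (union I x) hfree c
  have hKfree := hyper_free (A := FractionRing R) hn (isSemi_self I xK) ⟨i₀, hi₀, hxK⟩
  have hgen : (union I x).map (bc c) = union I xK :=
    eq_of_le_of_finrank (k := FractionRing R) (map_hyper_le c (isSemi_self I x) (isSemi_self I xK) fun _ => rfl)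
      (hrankK.trans hKfree.2.2.symm)
  let aK : TP k (FractionRing R) ⟶ H := TPmap (Algebra.ofId k (FractionRing R)) ≫ a
  have hIK : HilbD.pull f aK Z.1 = fam f j hw (ext (FractionRing R) I) := by
    have hfI : Module.Finite k ((k ⊗[k] B) ⧸ ext (k := k) k I) ∧ Module.Free k ((k ⊗[k] B) ⧸ ext (k := k) k I) ∧
        Module.finrank k ((k ⊗[k] B) ⧸ ext (k := k) k I) = n := by
      let eI : ((k ⊗[k] B) ⧸ ext (k := k) k I) ≃ₐ[k] k ⊗[k] (B ⧸ I) :=
        (Ideal.quotientEquivAlgOfEq k (ker_qI k I).symm).trans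
          (Ideal.quotientKerAlgEquivOfSurjective (qI_surjective k I))
      exact ⟨Module.Finite.equiv eI.symm.toLinearEquiv, inferInstance, by
        rw [eI.toLinearEquiv.finrank_eq, Module.finrank_baseChange, hn]⟩
    rw [pull_comp, hI, pull_fam f j hw _ hfI, map_ext]
  let γ := H27HilbOne.graph f (TP k (FractionRing R)) (ptX j xK) (ptX_w f j hw xK)
  have hdis : ∀ (z : (fam f j hw (ext (FractionRing R) I)).subscheme) (y : (TP k (FractionRing R)).left),
      (fam f j hw (ext (FractionRing R) I)).subschemeι z ≠ γ y := by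
    intro z y hzy
    haveI : IsReduced (TP k (FractionRing R)).left :=
      inferInstanceAs (IsReduced (Spec (CommRingCat.of (FractionRing R))))
    haveI : Subsingleton (TP k (FractionRing R)).left :=
      inferInstanceAs (Subsingleton (PrimeSpectrum (FractionRing R)))
    obtain ⟨l, hl⟩ := H17.exists_lift_immersion_of_range_subset γ
      (fam f j hw (ext (FractionRing R) I)).subschemeι (by
        rintro _ ⟨y', rfl⟩
        exact ⟨z, hzy.trans (by rw [Subsingleton.elim y y'])⟩)
    have hle : fam f j hw (ext (FractionRing R) I) ≤ fam f j hw (RingHom.ker (evPt xK)) := by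
      rw [fam_graph, H27HilbOne.secGraph_eq]
      exact (exists_lift_subschemeι_iff _ γ).1 ⟨l, hl⟩
    have hdI : Module.Finite (FractionRing R) ((FractionRing R ⊗[k] B) ⧸ ext (k := k) (FractionRing R) I) ∧
        Module.Free (FractionRing R) ((FractionRing R ⊗[k] B) ⧸ ext (k := k) (FractionRing R) I) ∧
        Module.finrank (FractionRing R) ((FractionRing R ⊗[k] B) ⧸ ext (k := k) (FractionRing R) I) = n := by
      let eI : ((FractionRing R ⊗[k] B) ⧸ ext (k := k) (FractionRing R) I) ≃ₐ[FractionRing R]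
          FractionRing R ⊗[k] (B ⧸ I) :=
        (Ideal.quotientEquivAlgOfEq _ (ker_qI (FractionRing R) I).symm).trans
          (Ideal.quotientKerAlgEquivOfSurjective (qI_surjective (FractionRing R) I))
      exact ⟨Module.Finite.equiv eI.symm.toLinearEquiv, inferInstance, by
        rw [eI.toLinearEquiv.finrank_eq, Module.finrank_baseChange, hn]⟩
    have hsur : Function.Surjective (evPt xK) := fun r => ⟨r ⊗ₜ[k] (1 : B), by simp⟩
    let eP := Ideal.quotientKerAlgEquivOfSurjective hsur
    have hdP : Module.Finite (FractionRing R) ((FractionRing R ⊗[k] B) ⧸ RingHom.ker (evPt xK)) ∧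
        Module.Free (FractionRing R) ((FractionRing R ⊗[k] B) ⧸ RingHom.ker (evPt xK)) ∧
        Module.finrank (FractionRing R) ((FractionRing R ⊗[k] B) ⧸ RingHom.ker (evPt xK)) = 1 :=
      ⟨Module.Finite.equiv eP.symm.toLinearEquiv, Module.Free.of_equiv eP.symm.toLinearEquiv,
        eP.toLinearEquiv.finrank_eq.trans (Module.finrank_self _)⟩
    have hle' := Scheme.IdealSheafData.comap_mono (f := XOincl f (fB (𝟙 _)) j (𝟙 _) hw (TA (𝟙 _) (FractionRing R))) hle
    have c1 := comap_pushO f (fB (𝟙 _)) j (𝟙 _) hw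
      (T := TA (𝟙 _) (FractionRing R)) ⟨famOf (𝟙 _) (ext (k := k) (FractionRing R) I), deg_famOf _ hdI⟩
    have c2 := comap_pushO f (fB (𝟙 _)) j (𝟙 _) hw
      (T := TA (𝟙 _) (FractionRing R)) ⟨famOf (𝟙 _) (RingHom.ker (evPt xK)), deg_famOf _ hdP⟩
    simp only [fam] at hle'
    rw [c1, c2] at hle'
    have := (famOf_le_famOf_iff _ _ _).1 hle'
      (Ideal.mem_map_of_mem (Algebra.TensorProduct.includeRight : B →ₐ[k] FractionRing R ⊗[k] B) hi₀)
    rw [RingHom.mem_ker] at this
    refine hxK ?_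
    simpa using this
  let mor : (TP k (FractionRing R)).left ⟶ PicF.XT f H := ptX j xK ≫ slice f a
  have hm1 : mor = γ ≫ PicF.XTmap f aK := by
    apply pullback.hom_ext
    · simp [mor, γ, slice, PicF.XTmap]
      exact (H27HilbOne.graph_fst f (TP k (FractionRing R)) _ (ptX_w f j hw xK)).symm
    · simp only [mor, γ, slice, PicF.XTmap, Category.assoc, pullback.lift_snd, H27HilbOne.graph_snd_assoc]
      rw [← Category.assoc (Spec.map _), ← Category.assoc (Spec.map _ ≫ j), Category.assoc (Spec.map _), ← Category.assoc,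
        ptX_w f j hw xK]
      show _ = (TPmap (Algebra.ofId k (FractionRing R))).left ≫ a.left
      show (Spec.map (ofHom (algebraMap k (FractionRing R))) ≫ 𝟙 _) ≫ 𝟙 _ ≫ a.left = _
      rfl
  have hrange : Set.range mor ⊆ Set.range (pairOpen f H Z).ι := by
    rintro _ ⟨y, rfl⟩
    rw [Scheme.Opens.range_ι]
    rintro ⟨z, hz⟩
    rw [hm1] at hz
    obtain ⟨u, hu⟩ := exists_isPullback_pull f aK Z.1
    obtain ⟨w, -, hw'⟩ := Scheme.Pullback.exists_preimage_pullback z (γ y) hz
    have hz' : (HilbD.pull f aK Z.1).subschemeι (hu.isoPullback.inv w) = γ y := by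
      rw [← Scheme.Hom.comp_apply, hu.isoPullback_inv_snd]
      exact hw'
    have key : ∀ (K : (PicF.XT f (TP k (FractionRing R))).IdealSheafData),
        K = fam f j hw (ext (FractionRing R) I) → ∀ z, K.subschemeι z ≠ γ y := by
      rintro _ rfl z
      exact hdis z y
    exact key _ hIK _ hz'
  let w : TP k (FractionRing R) ⟶ pairs f H Z := Over.homMk (IsOpenImmersion.lift (pairOpen f H Z).ι mor hrange) (by
    show IsOpenImmersion.lift _ mor hrange ≫ (pairOpen f H Z).ι ≫ pullback.snd f H.hom ≫ H.hom = _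
    rw [IsOpenImmersion.lift_fac_assoc, hm1, Category.assoc]
    simp only [γ, PicF.XTmap, pullback.lift_snd_assoc, Category.assoc, H27HilbOne.graph_snd_assoc]
    exact Over.w aK)
  have hwq : w ≫ forgetPt f H Z = aK := Over.OverMorphism.ext (by
    show IsOpenImmersion.lift _ mor hrange ≫ (pairOpen f H Z).ι ≫ pullback.snd f H.hom = _
    rw [IsOpenImmersion.lift_fac_assoc, hm1, Category.assoc]
    simp only [γ, PicF.XTmap, pullback.lift_snd, H27HilbOne.graph_snd_assoc])
  have hwΦ : HilbD.pull f (w ≫ Φ) Z'.1 = fam f j hw ((union I x).map (bc c)) := by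
    have hsec : HilbD.pull f w (HilbD.secGraph f (pairs f H Z) (thePt f H Z) (thePt_w f H Z)) =
        fam f j hw (RingHom.ker (evPt xK)) := by
      rw [H27HilbOne.pull_secGraph, fam_graph]
      simp only [H27HilbOne.secGraph_eq]
      congr 1
      apply pullback.hom_ext
      · rw [H27HilbOne.graph_fst, H27HilbOne.graph_fst]
        show IsOpenImmersion.lift _ mor hrange ≫ (pairOpen f H Z).ι ≫ pullback.fst f H.hom = _
        rw [IsOpenImmersion.lift_fac_assoc]
        simp [mor, slice]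
        rfl
      · rw [H27HilbOne.graph_snd, H27HilbOne.graph_snd]
    have hI' : HilbD.pull f w (HilbD.pull f (forgetPt f H Z) Z.1) = fam f j hw (ext (FractionRing R) I) := by
      rw [← pull_comp, hwq, hIK]
    rw [hgen, union_eq, fam_inf, pull_comp, hΦ, H27HilbOne.pull_eq_comap, H29Blow.comap_mul,
      ← H27HilbOne.pull_eq_comap, ← H27HilbOne.pull_eq_comap, hI', hsec]
    refine Union.mul_eq_inf (Union.disjoint_support fun z y => ?_)
    have key : ∀ (K : (PicF.XT f (TP k (FractionRing R))).IdealSheafData), K = γ.ker → ∀ y : K.subscheme,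
        (fam f j hw (ext (FractionRing R) I)).subschemeι z ≠ K.subschemeι y := by
      rintro _ rfl y
      obtain ⟨t, rfl⟩ := (Scheme.homeoOfIso (asIso γ.toImage)).surjective y
      exact fun h => hdis z t (h.trans (congr($(γ.toImage_imageι) t)))
    exact key _ (fam_graph f j hw xK) y
  have hcomp : comp b = _root_.ConnectedComponents.mk ((w ≫ Φ).left (IsLocalRing.closedPoint (FractionRing R))) :=
    comp_eq_of_family f j hw Z' hZ' (union I x) hfree ρ c b (w ≫ Φ) hb0 hwΦ
  have hspec : slice f a (j (⟨q₀, inferInstance⟩ : PrimeSpectrum B)) ⤳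
      mor (IsLocalRing.closedPoint (FractionRing R)) := by
    refine ((PrimeSpectrum.le_iff_specializes _ _).1 ?_).map (Scheme.Hom.continuous (j ≫ slice f a))
    show q₀ ≤ ((IsLocalRing.closedPoint (FractionRing R)).asIdeal).comap (xK : B →+* FractionRing R)
    intro z hz
    rw [Ideal.mem_comap]
    show xK z ∈ _
    rw [show xK z = 0 by show c (x z) = 0; rw [RingHom.mem_ker.1 (hq₀ hz), map_zero]]
    exact zero_mem _
  have hmem : mor (IsLocalRing.closedPoint (FractionRing R)) ∈ pairOpen f H Z := by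
    have := hrange ⟨IsLocalRing.closedPoint (FractionRing R), rfl⟩
    rwa [Scheme.Opens.range_ι] at this
  have hu := hspec.mem_open (pairOpen f H Z).isOpen hmem
  refine ⟨J, inferInstance, b, hu, hJrank, fun z hz => ?_, Ideal.mul_le.2 fun i hi y hy => ?_, ?_, ?_⟩
  · have h1 : (1 : k) ⊗ₜ[k] z ∈ ext k J := Ideal.mem_map_of_mem _ hz
    rw [hJ] at h1
    have hle : union I x ≤ ext R I := by rw [union_eq]; exact inf_le_left
    exact (mem_ext_iff I z).1 (map_ext ρ I ▸ Ideal.map_mono hle h1)
  · refine mem_map_union x ρ hi ?_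
    rw [← AlgHom.comp_apply, hρ]
    exact RingHom.mem_ker.1 hy
  · rw [hJ]; exact hb0
  · rw [hcomp]
    let v : (pairOpen f H Z).toScheme := ⟨slice f a (j (⟨q₀, inferInstance⟩ : PrimeSpectrum B)), hu⟩
    let v' : (pairOpen f H Z).toScheme := w.left (IsLocalRing.closedPoint (FractionRing R))
    have hv : v ⤳ v' := by
      rw [subtype_specializes_iff]
      have e : v'.1 = mor (IsLocalRing.closedPoint (FractionRing R)) :=
        congr($(IsOpenImmersion.lift_fac (pairOpen f H Z).ι mor hrange) (IsLocalRing.closedPoint (FractionRing R)))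
      rw [e]
      exact hspec
    exact (mk_eq_of_specializes (hv.map Φ.left.continuous)).symm

end Groth.Agent.H27Fogarty
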