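import Groth.Agent.H27Fogarty.Connected
import Mathlib

/-! # `dim Hilb^{n+1} ≥ dim Hilb^n + 2` for a surface -/

set_option autoImplicit false
set_option linter.style.haveILetI false
set_option backward.isDefEq.respectTransparency false
set_option backward.isDefEq.respectTransparency.types false

universe u

open CategoryTheory CategoryTheory.Limits AlgebraicGeometry TopologicalSpace Order

namespace Groth.Agent.H27Fogarty

open H27HilbOps

lemma lt_of_specializes {Y : Scheme.{u}} {a b : Y} (h : b ⤳ a) (hne : b ≠ a) : a < b :=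
  lt_of_le_not_ge (show b ⤳ a from h) fun (h' : a ⤳ b) => hne (h.antisymm h').eq

/-- Generisations lift along flat morphisms. -/
theorem coheight_le_of_flat {Y T : Scheme.{u}} (g : Y ⟶ T) [Flat g] (b : Y) : coheight (g b) ≤ coheight b := by
  refine coheight_le_iff'.mpr fun p hp => ?_
  induction p using RelSeries.inductionOn generalizing b with
  | singleton x => simp
  | cons p x hx ih =>
    simp only [RelSeries.head_cons] at hp
    subst hp
    have hlt : g b < p.head := hx
    obtain ⟨b', hb', e⟩ := Flat.generalizingMap g (a := b) (b := p.head) hlt.le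
    have h1 : b < b' := lt_of_specializes hb' fun e' => hlt.ne (by rw [← e, e'])
    have h2 := ih b' e.symm
    calc _ = (p.length : ℕ∞) + 1 := by simp
      _ ≤ coheight b' + 1 := by gcongr
      _ ≤ coheight b := coheight_add_one_le h1

lemma coheight_le_of_forall_specializes {Y T : Scheme.{u}} (g : Y ⟶ T)
    (hg : ∀ x y : Y, x ⤳ y → g x = g y → x = y) (x : Y) : coheight x ≤ coheight (g x) :=
  coheight_le_coheight_apply_of_strictMono _ (fun a b hab => lt_of_specializes
    ((show b ⤳ a from hab.le).map g.continuous) fun e => hab.ne (hg b a hab.le e).symm) x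

variable {S : Scheme.{u}} {X : Scheme.{u}} (f : X ⟶ S) {n : ℕ} (H : Over S) (Z : HilbD.Obj f n H)

lemma pairs_disjoint [IsSeparated f]
    (a : (HilbD.pull f (forgetPt f H Z) Z.1).subscheme)
    (b : (HilbD.secGraph f (pairs f H Z) (thePt f H Z) (thePt_w f H Z)).subscheme) :
    (HilbD.pull f (forgetPt f H Z) Z.1).subschemeι a ≠
      (HilbD.secGraph f (pairs f H Z) (thePt f H Z) (thePt_w f H Z)).subschemeι b := by
  intro hab
  obtain ⟨u, hu⟩ := exists_isPullback_pull f (forgetPt f H Z) Z.1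
  let γ := H27HilbOne.graph f (pairs f H Z) (thePt f H Z) (thePt_w f H Z)
  obtain ⟨t, rfl⟩ := (Scheme.homeoOfIso (asIso γ.toImage)).surjective b
  have hab' : (HilbD.pull f (forgetPt f H Z) Z.1).subschemeι a = γ t :=
    hab.trans (congr($(γ.toImage_imageι) t))
  have e : γ ≫ PicF.XTmap f (forgetPt f H Z) = (pairOpen f H Z).ι := by
    apply pullback.hom_ext
    · simp [PicF.XTmap, γ]; exact H27HilbOne.graph_fst f (pairs f H Z) _ _
    · simp [PicF.XTmap, γ]; exact H27HilbOne.graph_snd_assoc f (pairs f H Z) _ _ _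
  refine t.2 ⟨u a, ?_⟩
  rw [← Scheme.Hom.comp_apply, hu.w, Scheme.Hom.comp_apply, hab', ← Scheme.Hom.comp_apply, e]
  rfl

variable {H' : Over S} (Z' : HilbD.Obj f (n + 1) H') (Φ : pairs f H Z ⟶ H')

/-- `(W, p) ↦ W + p` has no specialisations inside its fibres. -/
theorem no_specialization_in_fibre [IsSeparated f] [LocallyOfFiniteType f] [LocallyOfFiniteType H.hom]
    (hZ : HilbD.IsUniversal f n H Z) (hΦ : HilbD.pull f Φ Z'.1 =
      HilbD.pull f (forgetPt f H Z) Z.1 * HilbD.secGraph f (pairs f H Z) (thePt f H Z) (thePt_w f H Z))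
    (x y : (pairs f H Z).left) (hxy : x ⤳ y) (he : Φ.left x = Φ.left y) : x = y := by
  let γ := H27HilbOne.graph f (pairs f H Z) (thePt f H Z) (thePt_w f H Z)
  let P := pairs f H Z
  have hle : HilbD.pull f Φ Z'.1 ≤ γ.ker := by
    rw [hΦ, ← H27HilbOne.secGraph_eq, Union.mul_eq_inf (Union.disjoint_support (pairs_disjoint f H Z))]
    exact inf_le_right
  obtain ⟨l, hl⟩ := (exists_lift_subschemeι_iff _ γ).2 hle
  obtain ⟨v, hv⟩ := exists_isPullback_pull f Φ Z'.1
  let g := l ≫ v
  have hgι : g ≫ Z'.1.subschemeι = γ ≫ PicF.XTmap f Φ := by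
    simp only [g, Category.assoc, hv.w, reassoc_of% hl]
  have hg1 : g ≫ Z'.1.subschemeι ≫ pullback.fst f H'.hom = thePt f H Z := by
    rw [← Category.assoc, hgι]
    simp [PicF.XTmap, γ]
    exact H27HilbOne.graph_fst f (pairs f H Z) _ _
  have hg2 : g ≫ Z'.1.subschemeι ≫ pullback.snd f H'.hom = Φ.left := by
    rw [← Category.assoc, hgι]
    simp [PicF.XTmap, γ]
    exact H27HilbOne.graph_snd_assoc f (pairs f H Z) _ _ _
  haveI : Mono g := ⟨fun {T} t₁ t₂ h => by
    have h1 : t₁ ≫ thePt f H Z = t₂ ≫ thePt f H Z := by rw [← hg1, reassoc_of% h]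
    have h2 : t₁ ≫ Φ.left = t₂ ≫ Φ.left := by rw [← hg2, reassoc_of% h]
    let τ₁ : Over.mk (t₁ ≫ P.hom) ⟶ P := Over.homMk t₁ rfl
    let τ₂ : Over.mk (t₁ ≫ P.hom) ⟶ P := Over.homMk t₂ (by
      show t₂ ≫ P.hom = t₁ ≫ P.hom
      rw [← Over.w Φ, ← Category.assoc, ← Category.assoc, h2])
    have hτ : τ₁ ≫ Φ = τ₂ ≫ Φ := Over.OverMorphism.ext h2
    have hm : ∀ τ : Over.mk (t₁ ≫ P.hom) ⟶ P, HilbD.pull f (τ ≫ Φ) Z'.1 =
        HilbD.pull f (τ ≫ forgetPt f H Z) Z.1 *
          HilbD.pull f τ (HilbD.secGraph f P (thePt f H Z) (thePt_w f H Z)) := fun τ => by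
      rw [pull_comp, hΦ]
      simp only [H27HilbOne.pull_eq_comap, H29Blow.comap_mul]
      rw [← H27HilbOne.pull_eq_comap f (τ ≫ forgetPt f H Z), pull_comp]
      simp only [H27HilbOne.pull_eq_comap]
      rfl
    have hsec : HilbD.pull f τ₁ (HilbD.secGraph f P (thePt f H Z) (thePt_w f H Z)) =
        HilbD.pull f τ₂ (HilbD.secGraph f P (thePt f H Z) (thePt_w f H Z)) := by
      rw [H27HilbOne.pull_secGraph, H27HilbOne.pull_secGraph]
      congr 1
    have hd : ∀ τ : Over.mk (t₁ ≫ P.hom) ⟶ P, Disjoint (α := Set (PicF.XT f (Over.mk (t₁ ≫ P.hom))))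
        ((HilbD.pull f (τ ≫ forgetPt f H Z) Z.1).support : Set (PicF.XT f (Over.mk (t₁ ≫ P.hom))))
        ((HilbD.pull f τ (HilbD.secGraph f P (thePt f H Z) (thePt_w f H Z))).support : Set (PicF.XT f (Over.mk (t₁ ≫ P.hom)))) := fun τ => by
      rw [pull_comp]
      exact Union.disjoint_support (Union.pull_ne (pairs_disjoint f H Z) τ)
    have hW := (Union.eq_of_mul_eq (((hm τ₁).symm.trans (congrArg (fun c => HilbD.pull f c Z'.1) hτ)).trans (hm τ₂))
      (by rw [← hsec]; exact hd τ₁) (by rw [hsec]; exact hd τ₂)).1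
    have hf : τ₁ ≫ forgetPt f H Z = τ₂ ≫ forgetPt f H Z :=
      (hZ _ ⟨HilbD.pull f (τ₁ ≫ forgetPt f H Z) Z.1, (pullObj f _ Z).2⟩).unique rfl hW.symm
    rw [← cancel_mono (pairOpen f H Z).ι]
    apply pullback.hom_ext
    · rw [Category.assoc, Category.assoc]; exact h1
    · rw [Category.assoc, Category.assoc]; exact congrArg CommaMorphism.left hf⟩
  haveI : LocallyOfFiniteType (pairs f H Z).hom :=
    inferInstanceAs (LocallyOfFiniteType ((pairOpen f H Z).ι ≫ pullback.snd f H.hom ≫ H.hom))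
  haveI : LocallyOfFiniteType g := by
    haveI : LocallyOfFiniteType (g ≫ Z'.1.subschemeι ≫ pullback.snd f H'.hom ≫ H'.hom) := by
      rw [reassoc_of% hg2, Over.w Φ]; infer_instance
    exact locallyOfFiniteType_of_comp g (Z'.1.subschemeι ≫ pullback.snd f H'.hom ≫ H'.hom)
  haveI : LocallyQuasiFinite g := LocallyQuasiFinite.of_injective g.injective
  haveI := Z'.2.1.1
  haveI : LocallyQuasiFinite (g ≫ Z'.1.subschemeι ≫ PicF.XTproj f H') := inferInstance
  haveI : LocallyQuasiFinite Φ.left := hg2 ▸ inferInstanceAs (LocallyQuasiFinite (g ≫ Z'.1.subschemeι ≫ PicF.XTproj f H'))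
  have hd := (Φ.left.isDiscrete_preimage_singleton (Φ.left y)).to_subtype
  let a : (Φ.left ⁻¹' {Φ.left y}) := ⟨x, he⟩
  let b : (Φ.left ⁻¹' {Φ.left y}) := ⟨y, rfl⟩
  have hab : a ⤳ b := Topology.IsInducing.subtypeVal.specializes_iff.1 hxy
  exact congrArg Subtype.val hab.eq

section field

variable {k : Type u} [Field k] [IsAlgClosed k] {X : Scheme.{u}} (f : X ⟶ Spec (CommRingCat.of k))
  [IsSeparated f] [LocallyOfFiniteType f] {n : ℕ}

/-- Each step adds two dimensions. -/
theorem exists_coheight_succ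
    (hX2 : ∀ E : Set X, IsClosed E → E.Finite → ∃ x₂ x₁ p : X, p ∉ E ∧ x₂ ⤳ x₁ ∧ x₂ ≠ x₁ ∧ x₁ ⤳ p ∧ x₁ ≠ p)
    {H : Over (Spec (CommRingCat.of k))} [LocallyOfFiniteType H.hom] (Z : HilbD.Obj f n H)
    (hZ : HilbD.IsUniversal f n H Z) {H' : Over (Spec (CommRingCat.of k))} [LocallyOfFiniteType H'.hom]
    (Z' : HilbD.Obj f (n + 1) H') (hZ' : HilbD.IsUniversal f (n + 1) H' Z')
    {h : H.left} (hh : IsClosed ({h} : Set H.left)) (hdim : (2 * n : ℕ) ≤ coheight h) :
    ∃ h' : H'.left, IsClosed ({h'} : Set H'.left) ∧ (2 * (n + 1) : ℕ) ≤ coheight h' := by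
  obtain ⟨Φ, hΦ⟩ := exists_addPt f H Z H' Z' hZ'
  obtain ⟨a, rfl⟩ := exists_point hh
  let s := slice f a
  let E : Set X := s ⁻¹' Set.range Z.1.subschemeι
  have hEc : IsClosed E := Z.1.subschemeι.isClosedEmbedding.isClosed_range.preimage s.continuous
  have hsnd : ∀ x : X, pullback.snd f H.hom (s x) = a.left (IsLocalRing.closedPoint k) := fun x => by
    haveI : Subsingleton (TP k k).left := inferInstanceAs (Subsingleton (PrimeSpectrum k))
    simp only [s, slice]
    rw [← Scheme.Hom.comp_apply, pullback.lift_snd, Scheme.Hom.comp_apply]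
    exact congrArg a.left (Subsingleton.elim _ _)
  have hsfst : ∀ x : X, pullback.fst f H.hom (s x) = x := fun x => by
    simp only [s, slice]
    rw [← Scheme.Hom.comp_apply, pullback.lift_fst]
    rfl
  have hEfin : E.Finite := by
    refine Set.Finite.subset ((Set.finite_of_encard_le_coe (encard_fibre_le _ Z.2
      (a.left (IsLocalRing.closedPoint k)))).image (Z.1.subschemeι ≫ pullback.fst f H.hom)) ?_
    rintro x ⟨z, hz⟩
    refine ⟨z, ?_, ?_⟩
    · show pullback.snd f H.hom (Z.1.subschemeι z) = _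
      rw [hz]; exact hsnd x
    · show pullback.fst f H.hom (Z.1.subschemeι z) = _
      rw [hz]; exact hsfst x
  obtain ⟨x₂, x₁, p, hp, h21, ne21, h1p, ne1p⟩ := hX2 E hEc hEfin
  have hp1 : x₁ ∉ E := fun h' => hp (h1p.mem_closed hEc h')
  have hp2 : x₂ ∉ E := fun h' => hp1 (h21.mem_closed hEc h')
  have sne : ∀ {x y : X}, x ≠ y → s x ≠ s y := fun {x y} hne e => hne (by rw [← hsfst x, e, hsfst y])
  let u₀ : (pairs f H Z).left := ⟨s p, hp⟩
  let u₁ : (pairs f H Z).left := ⟨s x₁, hp1⟩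
  let u₂ : (pairs f H Z).left := ⟨s x₂, hp2⟩
  have hspec : ∀ {x y : (pairs f H Z).left}, x.1 ⤳ y.1 → x ⤳ y := fun hxy =>
    (pairOpen f H Z).ι.isOpenEmbedding.isInducing.specializes_iff.1 hxy
  have l10 : u₀ < u₁ := lt_of_specializes (hspec (h1p.map s.continuous)) fun e => sne ne1p (congrArg Subtype.val e)
  have l21 : u₁ < u₂ := lt_of_specializes (hspec (h21.map s.continuous)) fun e => sne ne21 (congrArg Subtype.val e)
  have hb : (2 * n : ℕ) ≤ coheight u₂ := by
    haveI : Flat f := inferInstance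
    haveI : Flat (forgetPt f H Z).left := inferInstanceAs (Flat ((pairOpen f H Z).ι ≫ pullback.snd f H.hom))
    refine le_trans ?_ (coheight_le_of_flat (forgetPt f H Z).left u₂)
    rw [show (forgetPt f H Z).left u₂ = a.left (IsLocalRing.closedPoint k) from hsnd x₂]
    exact hdim
  have h4 : (2 * (n + 1) : ℕ) ≤ coheight (Φ.left u₀) := by
    refine le_trans ?_ (coheight_le_of_forall_specializes Φ.left
      (no_specialization_in_fibre f H Z Z' Φ hZ hΦ) u₀)
    calc ((2 * (n + 1) : ℕ) : ℕ∞) = (2 * n : ℕ) + 1 + 1 := by push_cast; ring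
      _ ≤ coheight u₂ + 1 + 1 := by gcongr
      _ ≤ coheight u₁ + 1 := by gcongr; exact coheight_add_one_le l21
      _ ≤ coheight u₀ := coheight_add_one_le l10
  haveI : JacobsonSpace H'.left := LocallyOfFiniteType.jacobsonSpace H'.hom
  obtain ⟨q, hq, hsq⟩ := exists_closed_specializes (Φ.left u₀)
  exact ⟨q, hq, h4.trans (coheight_anti hsq)⟩

end field

end Groth.Agent.H27Fogarty
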