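import Groth.Agent.H27HilbAff.Coord
import Mathlib

/-! # Tangent vectors of a family of ideals inject into `Hom(I, B/I)` -/

set_option autoImplicit false
set_option linter.style.haveILetI false
set_option backward.isDefEq.respectTransparency false
set_option backward.isDefEq.respectTransparency.types false

universe u

open TensorProduct TrivSqZeroExt DualNumber

namespace Groth.Agent.H27Fogarty.Tangent

open H27HilbAff (bc bc_tmul)

variable {k : Type u} [Field k] {P : Type u} [CommRing P] [Algebra k P] {B : Type u} [CommRing B] [Algebra k B]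

/-- Evaluation of the base at a point. -/
noncomputable def ev (χ : P →ₐ[k] k) : P ⊗[k] B →ₐ[k] B :=
  Algebra.TensorProduct.lift ((Algebra.ofId k B).comp χ) (AlgHom.id k B) fun _ _ => Commute.all _ _

@[simp] lemma ev_tmul (χ : P →ₐ[k] k) (p : P) (b : B) : ev χ (p ⊗ₜ[k] b) = χ p • b := by
  simp [ev, Algebra.smul_def]

/-- Differentiation of the coefficients. -/
noncomputable def dd (D : P →ₗ[k] k) : P ⊗[k] B →ₗ[k] B :=
  TensorProduct.lift (D.smulRight LinearMap.id)

@[simp] lemma dd_tmul (D : P →ₗ[k] k) (p : P) (b : B) : dd D (p ⊗ₜ[k] b) = D p • b := by simp [dd]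

/-- A derivation at a point. -/
def IsDer (χ : P →ₐ[k] k) (D : P →ₗ[k] k) : Prop := ∀ p q, D (p * q) = χ p * D q + χ q * D p

lemma IsDer.one {χ : P →ₐ[k] k} {D : P →ₗ[k] k} (h : IsDer χ D) : D 1 = 0 := by
  have := h 1 1
  simp only [mul_one, map_one, one_mul] at this
  exact left_eq_add.1 this

lemma IsDer.dd_smul {χ : P →ₐ[k] k} {D : P →ₗ[k] k} (h : IsDer χ D) (p : P) (w : P ⊗[k] B) :
    dd D (p • w) = χ p • dd D w + D p • ev χ w := by
  induction w using TensorProduct.induction_on with
  | zero => simp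
  | tmul q b =>
    rw [TensorProduct.smul_tmul', dd_tmul, dd_tmul, ev_tmul, smul_eq_mul, h, add_smul, mul_smul, mul_smul,
      smul_comm (χ q) (D p)]
  | add x y hx hy => simp only [smul_add, map_add, hx, hy]; abel

lemma IsDer.dd_tmul_one_mul {χ : P →ₐ[k] k} {D : P →ₗ[k] k} (_h : IsDer χ D) (b : B) (w : P ⊗[k] B) :
    dd D ((1 : P) ⊗ₜ[k] b * w) = b * dd D w := by
  induction w using TensorProduct.induction_on with
  | zero => simp
  | tmul q c => simp [mul_smul_comm]
  | add x y hx hy => simp only [mul_add, map_add, hx, hy]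

lemma sub_ev_mem (χ : P →ₐ[k] k) (u : P ⊗[k] B) :
    u - (1 : P) ⊗ₜ[k] ev χ u ∈ (RingHom.ker χ) • (⊤ : Submodule P (P ⊗[k] B)) := by
  induction u using TensorProduct.induction_on with
  | zero => simp
  | tmul p b =>
    have e : p ⊗ₜ[k] b - (1 : P) ⊗ₜ[k] ev χ (p ⊗ₜ[k] b) = (p - algebraMap k P (χ p)) • ((1 : P) ⊗ₜ[k] b) := by
      rw [ev_tmul, sub_smul, algebraMap_smul, TensorProduct.smul_tmul', smul_eq_mul, mul_one,
        TensorProduct.tmul_smul]
    rw [e]
    exact Submodule.smul_mem_smul (by simp [RingHom.mem_ker]) trivial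
  | add x y hx hy =>
    rw [map_add, TensorProduct.tmul_add, add_sub_add_comm]
    exact add_mem hx hy

variable (K : Ideal (P ⊗[k] B)) [Module.Projective P ((P ⊗[k] B) ⧸ K)] {χ : P →ₐ[k] k} {I : Ideal B}

/-- Coefficientwise derivatives of a relation vanishing at the point lie in the ideal. -/
theorem dd_mem {D : P →ₗ[k] k} (h : IsDer χ D) (hI : K.map (ev χ) = I) {u : P ⊗[k] B} (hu : u ∈ K)
    (h0 : ev χ u = 0) : dd D u ∈ I := by
  let mk : P ⊗[k] B →ₗ[P] (P ⊗[k] B) ⧸ K := (Ideal.Quotient.mkₐ P K).toLinearMap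
  obtain ⟨s, hs⟩ := Module.projective_lifting_property mk LinearMap.id Ideal.Quotient.mk_surjective
  let π : P ⊗[k] B →ₗ[P] P ⊗[k] B := LinearMap.id - s.comp mk
  have hπK : ∀ w, π w ∈ K := fun w => by
    rw [← Ideal.Quotient.eq_zero_iff_mem]
    show Ideal.Quotient.mk K (w - s (mk w)) = 0
    rw [map_sub, show Ideal.Quotient.mk K (s (mk w)) = mk w from LinearMap.congr_fun hs (mk w)]
    exact sub_self _
  have hπu : π u = u := by
    show u - s (mk u) = u
    rw [show mk u = 0 from Ideal.Quotient.eq_zero_iff_mem.2 hu, map_zero, sub_zero]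
  have hmem : u ∈ (RingHom.ker χ) • (⊤ : Submodule P (P ⊗[k] B)) := by simpa [h0] using sub_ev_mem χ u
  have hπ : π u ∈ (RingHom.ker χ) • (K.restrictScalars P) := by
    have := Submodule.mem_map_of_mem (f := π) hmem
    rw [Submodule.map_smul''] at this
    refine Submodule.smul_mono le_rfl ?_ this
    rintro _ ⟨w, -, rfl⟩
    exact hπK w
  rw [hπu] at hπ
  refine Submodule.smul_induction_on hπ (fun p hp w hw => ?_) (fun x y hx hy => ?_)
  · rw [h.dd_smul, (RingHom.mem_ker.1 hp), zero_smul, zero_add, ← hI]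
    exact Submodule.smul_of_tower_mem _ _ (Ideal.mem_map_of_mem _ hw)
  · rw [map_add]; exact add_mem hx hy

lemma exists_lift (hI : K.map (ev χ) = I) (i : ↥I) : ∃ u ∈ K, ev χ u = i := by
  have : (i : B) ∈ K.map (ev χ) := hI.symm ▸ i.2
  exact (Ideal.mem_map_iff_of_surjective _ fun b => ⟨(1 : P) ⊗ₜ[k] b, by simp⟩).1 this

/-- The tangent vector of a derivation. -/
noncomputable def phi {D : P →ₗ[k] k} (h : IsDer χ D) (hI : K.map (ev χ) = I) : ↥I →ₗ[B] B ⧸ I where
  toFun i := Ideal.Quotient.mk I (dd D (exists_lift K hI i).choose)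
  map_add' i j := by
    rw [← map_add, Ideal.Quotient.mk_eq_mk_iff_sub_mem, ← map_add, ← map_sub]
    obtain ⟨h1, e1⟩ := (exists_lift K hI (i + j)).choose_spec
    obtain ⟨h2, e2⟩ := (exists_lift K hI i).choose_spec
    obtain ⟨h3, e3⟩ := (exists_lift K hI j).choose_spec
    exact dd_mem K h hI (K.sub_mem h1 (K.add_mem h2 h3)) (by simp [e1, e2, e3])
  map_smul' b i := by
    obtain ⟨h1, e1⟩ := (exists_lift K hI (b • i)).choose_spec
    obtain ⟨h2, e2⟩ := (exists_lift K hI i).choose_spec
    show Ideal.Quotient.mk I (dd D _) = Ideal.Quotient.mk I (b * dd D _)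
    rw [Ideal.Quotient.mk_eq_mk_iff_sub_mem, ← h.dd_tmul_one_mul, ← map_sub]
    exact dd_mem K h hI (K.sub_mem h1 (K.mul_mem_left _ h2)) (by simp [e1, e2])

lemma phi_apply {D : P →ₗ[k] k} (h : IsDer χ D) (hI : K.map (ev χ) = I) (i : ↥I) {u : P ⊗[k] B} (hu : u ∈ K)
    (he : ev χ u = i) : phi K h hI i = Ideal.Quotient.mk I (dd D u) := by
  show Ideal.Quotient.mk I (dd D _) = _
  rw [Ideal.Quotient.mk_eq_mk_iff_sub_mem, ← map_sub]
  obtain ⟨h1, e1⟩ := (exists_lift K hI i).choose_spec
  exact dd_mem K h hI (K.sub_mem h1 hu) (by simp [e1, he])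

/-- The morphism to the dual numbers of a derivation. -/
noncomputable def psi {D : P →ₗ[k] k} (h : IsDer χ D) : P →ₐ[k] DualNumber k where
  toFun p := inl (χ p) + inr (D p)
  map_one' := by ext <;> simp [h.one]
  map_mul' p q := by
    ext
    · simp
    · simp [h p q]; ring
  map_zero' := by ext <;> simp
  map_add' p q := by ext <;> simp
  commutes' c := by
    ext
    · simp [TrivSqZeroExt.algebraMap_eq_inl']
    · simp [TrivSqZeroExt.algebraMap_eq_inl', Algebra.algebraMap_eq_smul_one, h.one]

lemma psi_apply {D : P →ₗ[k] k} (h : IsDer χ D) (p : P) : psi h p = inl (χ p) + inr (D p) := rfl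

lemma bc_psi {D : P →ₗ[k] k} (h : IsDer χ D) (u : P ⊗[k] B) :
    bc (psi h) u = (1 : DualNumber k) ⊗ₜ[k] ev χ u + (ε : DualNumber k) ⊗ₜ[k] dd D u := by
  induction u using TensorProduct.induction_on with
  | zero => simp
  | tmul p b =>
    rw [bc_tmul, ev_tmul, dd_tmul, TensorProduct.tmul_smul, TensorProduct.tmul_smul, TensorProduct.smul_tmul',
      TensorProduct.smul_tmul', ← TensorProduct.add_tmul, psi_apply]
    congr 1
    ext <;> simp
  | add x y hx hy => simp only [map_add, hx, hy, TensorProduct.tmul_add]; abel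

/-- A derivation killing all relations does not move the family. -/
theorem map_bc_eq {D : P →ₗ[k] k} (h : IsDer χ D) (hI : K.map (ev χ) = I) (h0 : ∀ u ∈ K, dd D u ∈ I) :
    K.map (bc (psi h)) = I.map (Algebra.TensorProduct.includeRight : B →ₐ[k] DualNumber k ⊗[k] B) := by
  set J := I.map (Algebra.TensorProduct.includeRight : B →ₐ[k] DualNumber k ⊗[k] B)
  have hinc : ∀ b ∈ I, (1 : DualNumber k) ⊗ₜ[k] b ∈ J := fun b hb => Ideal.mem_map_of_mem _ hb
  have heps : ∀ b ∈ I, (ε : DualNumber k) ⊗ₜ[k] b ∈ J := fun b hb => by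
    rw [show (ε : DualNumber k) ⊗ₜ[k] b = (ε : DualNumber k) ⊗ₜ[k] (1 : B) * (1 : DualNumber k) ⊗ₜ[k] b by simp]
    exact J.mul_mem_left _ (hinc b hb)
  refine le_antisymm (Ideal.map_le_iff_le_comap.2 fun u hu => ?_) (Ideal.map_le_iff_le_comap.2 fun i hi => ?_)
  · rw [Ideal.mem_comap, bc_psi h]
    exact J.add_mem (hinc _ (by rw [← hI]; exact Ideal.mem_map_of_mem _ hu)) (heps _ (h0 u hu))
  · rw [Ideal.mem_comap]
    obtain ⟨u, hu, he⟩ := exists_lift K hI ⟨i, hi⟩
    simp only at he
    have h1 := Ideal.mem_map_of_mem (bc (psi h)) hu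
    rw [bc_psi h, he] at h1
    obtain ⟨u', hu', he'⟩ := exists_lift K hI ⟨dd D u, h0 u hu⟩
    simp only at he'
    have h2 := Ideal.mul_mem_left _ ((ε : DualNumber k) ⊗ₜ[k] (1 : B)) (Ideal.mem_map_of_mem (bc (psi h)) hu')
    rw [bc_psi h, mul_add, Algebra.TensorProduct.tmul_mul_tmul, Algebra.TensorProduct.tmul_mul_tmul, eps_mul_eps,
      one_mul, one_mul, mul_one, TensorProduct.zero_tmul, add_zero, he'] at h2
    have h3 := Ideal.sub_mem _ h1 h2
    rwa [add_sub_cancel_right] at h3

lemma smul_toCotangent (m : Ideal P) (c : k) (z : ↥m) :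
    c • m.toCotangent z = m.toCotangent (algebraMap k P c • z) := by
  rw [map_smul, algebraMap_smul]

/-- The derivation of a cotangent functional. -/
noncomputable def ofCotangent (χ : P →ₐ[k] k) (l : Module.Dual k (RingHom.ker χ).Cotangent) : P →ₗ[k] k where
  toFun p := l ((RingHom.ker χ).toCotangent ⟨p - algebraMap k P (χ p), by simp [RingHom.mem_ker]⟩)
  map_add' p q := by
    rw [← map_add, ← map_add]
    congr 2
    exact Subtype.ext (by simp only [map_add, Submodule.coe_add]; ring)
  map_smul' c p := by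
    rw [RingHom.id_apply, ← map_smul, smul_toCotangent]
    congr 2
    exact Subtype.ext (by simp [Algebra.smul_def, mul_sub])

lemma isDer_ofCotangent (χ : P →ₐ[k] k) (l : Module.Dual k (RingHom.ker χ).Cotangent) :
    IsDer χ (ofCotangent χ l) := fun p q => by
  show l _ = χ p * l _ + χ q * l _
  rw [← smul_eq_mul (χ p), ← smul_eq_mul (χ q), ← l.map_smul, ← l.map_smul, ← l.map_add]
  congr 1
  rw [smul_toCotangent, smul_toCotangent, ← map_add, Ideal.toCotangent_eq]
  rw [pow_two]
  convert Ideal.mul_mem_mul (I := RingHom.ker χ) (J := RingHom.ker χ)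
    (show p - algebraMap k P (χ p) ∈ RingHom.ker χ by simp [RingHom.mem_ker])
    (show q - algebraMap k P (χ q) ∈ RingHom.ker χ by simp [RingHom.mem_ker]) using 1
  simp only [Submodule.coe_add, Submodule.coe_smul, smul_eq_mul, map_mul]
  ring

/-- The tangent space of the parameters injects into `Hom(I, B/I)`. -/
theorem finrank_cotangent_le (hI : K.map (ev χ) = I)
    (huniv : ∀ ψ ψ' : P →ₐ[k] DualNumber k, K.map (bc ψ) = K.map (bc ψ') → ψ = ψ')
    [Module.Finite k (↥I →ₗ[B] B ⧸ I)] :
    Module.Finite k (RingHom.ker χ).Cotangent ∧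
      Module.finrank k (RingHom.ker χ).Cotangent ≤ Module.finrank k (↥I →ₗ[B] B ⧸ I) := by
  let T : Module.Dual k (RingHom.ker χ).Cotangent →ₗ[k] (↥I →ₗ[B] B ⧸ I) :=
    { toFun := fun l => phi K (isDer_ofCotangent χ l) hI
      map_add' := fun l l' => LinearMap.ext fun i => by
        obtain ⟨u, hu, he⟩ := exists_lift K hI i
        rw [LinearMap.add_apply, phi_apply K _ hI i hu he, phi_apply K _ hI i hu he, phi_apply K _ hI i hu he, ← map_add]
        congr 1
        have : ofCotangent χ (l + l') = ofCotangent χ l + ofCotangent χ l' := rfl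
        rw [this]
        clear hu he
        induction u using TensorProduct.induction_on with
        | zero => simp
        | tmul p b => simp [add_smul]
        | add x y hx hy => simp only [map_add, hx, hy]; abel
      map_smul' := fun c l => LinearMap.ext fun i => by
        obtain ⟨u, hu, he⟩ := exists_lift K hI i
        rw [LinearMap.smul_apply, RingHom.id_apply, phi_apply K _ hI i hu he, phi_apply K _ hI i hu he,
          ← Ideal.Quotient.mkₐ_eq_mk k, ← map_smul]
        congr 1
        have : ofCotangent χ (c • l) = c • ofCotangent χ l := rfl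
        rw [this]
        clear hu he
        induction u using TensorProduct.induction_on with
        | zero => simp
        | tmul p b => simp [smul_smul]
        | add x y hx hy => simp only [map_add, smul_add, hx, hy] }
  have hT : Function.Injective T := by
    rw [injective_iff_map_eq_zero]
    intro l hl
    have hd := isDer_ofCotangent χ l
    have h0 : IsDer χ (0 : P →ₗ[k] k) := fun p q => by simp
    have hmem : ∀ u ∈ K, dd (ofCotangent χ l) u ∈ I := fun u hu => by
      rw [← Ideal.Quotient.eq_zero_iff_mem, ← phi_apply K hd hI ⟨ev χ u, hI ▸ Ideal.mem_map_of_mem _ hu⟩ hu rfl]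
      exact LinearMap.congr_fun hl _
    have e := huniv (psi hd) (psi h0) ((map_bc_eq K hd hI hmem).trans (map_bc_eq K h0 hI fun u hu => by
      have : dd (0 : P →ₗ[k] k) u = 0 := by
        clear hu
        induction u using TensorProduct.induction_on with
        | zero => simp
        | tmul p b => simp
        | add x y hx hy => simp [map_add, hx, hy]
      rw [this]; exact I.zero_mem).symm)
    refine LinearMap.ext fun c => ?_
    obtain ⟨⟨p, hp⟩, rfl⟩ := (RingHom.ker χ).toCotangent_surjective c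
    have := congrArg TrivSqZeroExt.snd (AlgHom.congr_fun e p)
    simp only [psi_apply, snd_add, snd_inl, snd_inr, zero_add, LinearMap.zero_apply] at this
    rw [LinearMap.zero_apply, ← this]
    show l _ = l _
    congr 2
    exact Subtype.ext (by simp [RingHom.mem_ker.1 hp])
  haveI : Module.Finite k (Module.Dual k (RingHom.ker χ).Cotangent) := Module.Finite.of_injective T hT
  haveI : Module.Finite k (RingHom.ker χ).Cotangent := (Module.finite_dual_iff k).1 ‹_›
  exact ⟨inferInstance, Subspace.dual_finrank_eq (K := k).symm.trans_le (LinearMap.finrank_le_finrank_of_injective hT)⟩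

end Groth.Agent.H27Fogarty.Tangent
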