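import Groth.Agent.H27Fogarty.Connected
import Groth.Agent.H27Fogarty.HomBound
import Groth.Agent.H27Fogarty.Tangent
import Groth.Agent.H25SmVar.Basic
import Mathlib

/-! # The tangent space of `Hilb^n` of a surface has dimension at most `2n` -/

set_option autoImplicit false
set_option linter.style.haveILetI false
set_option backward.isDefEq.respectTransparency false
set_option backward.isDefEq.respectTransparency.types false

universe u

open CategoryTheory CategoryTheory.Limits AlgebraicGeometry TensorProduct CommRingCat TopologicalSpace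

namespace Groth.Agent.H27Fogarty

open H27HilbOps H27HilbAff

/-- A maximal ideal which is two-generated locally is two-generated up to a unit. -/
theorem exists_two_gen_of_localization {B : Type u} [CommRing B] [IsNoetherianRing B] (m : Ideal B) [hm : m.IsPrime]
    {L : Type u} [CommRing L] [Algebra B L] [IsLocalization.AtPrime L m] [IsLocalRing L] {a b : L}
    (h : IsLocalRing.maximalIdeal L = Ideal.span {a, b}) :
    ∃ g₁ g₂ s, g₁ ∈ m ∧ g₂ ∈ m ∧ s ∉ m ∧ ∀ r ∈ m, s * r ∈ Ideal.span {g₁, g₂} := by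
  classical
  obtain ⟨⟨g₁, s₁⟩, h₁⟩ := IsLocalization.surj m.primeCompl a
  obtain ⟨⟨g₂, s₂⟩, h₂⟩ := IsLocalization.surj m.primeCompl b
  simp only at h₁ h₂
  have hu₁ := IsLocalization.map_units L s₁
  have hu₂ := IsLocalization.map_units L s₂
  have hmem : ∀ {g : B} {c : L}, c ∈ IsLocalRing.maximalIdeal L → algebraMap B L g = c → g ∈ m := fun hc e =>
    (IsLocalization.AtPrime.to_map_mem_maximal_iff L m _).1 (e ▸ hc)
  have hg₁ : g₁ ∈ m := hmem (Ideal.mul_mem_right _ _ (h ▸ Ideal.subset_span (Or.inl rfl))) h₁.symm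
  have hg₂ : g₂ ∈ m := hmem (Ideal.mul_mem_right _ _ (h ▸ Ideal.subset_span (Or.inr rfl))) h₂.symm
  have hspan : IsLocalRing.maximalIdeal L = (Ideal.span {g₁, g₂}).map (algebraMap B L) := by
    rw [Ideal.map_span, Set.image_pair, ← h₁, ← h₂, h, Ideal.span_insert, Ideal.span_insert,
      Ideal.span_singleton_mul_right_unit hu₁, Ideal.span_singleton_mul_right_unit hu₂]
  obtain ⟨G, hG⟩ := IsNoetherian.noetherian m
  have hr : ∀ r ∈ m, ∃ s ∉ m, s * r ∈ Ideal.span {g₁, g₂} := fun r hr => by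
    have : algebraMap B L r ∈ (Ideal.span {g₁, g₂}).map (algebraMap B L) := hspan ▸
      (IsLocalization.AtPrime.to_map_mem_maximal_iff L m r).2 hr
    obtain ⟨s, hs, hsr⟩ := (IsLocalization.algebraMap_mem_map_algebraMap_iff m.primeCompl L _ r).1 this
    exact ⟨s, hs, hsr⟩
  choose! s hs hsr using hr
  have hGm : ∀ r ∈ G, r ∈ m := fun r hr => hG ▸ Submodule.subset_span hr
  refine ⟨g₁, g₂, ∏ r ∈ G, s r, hg₁, hg₂, fun h' => ?_, fun r hr => ?_⟩
  · obtain ⟨r, hr, hrs⟩ := (hm.prod_mem_iff).1 h'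
    exact hs r (hGm r hr) hrs
  · rw [← hG] at hr
    induction hr using Submodule.span_induction with
    | mem r hr =>
      rw [← Finset.mul_prod_erase G s hr, mul_comm (s r), mul_assoc]
      exact Ideal.mul_mem_left _ _ (hsr r (hGm r hr))
    | zero => simp
    | add x y _ _ hx hy => rw [mul_add]; exact add_mem hx hy
    | smul c x _ hx => rw [smul_eq_mul, mul_left_comm]; exact Ideal.mul_mem_left _ _ hx

/-- Two generators of the maximal ideal. -/
def TwoGen (X : Scheme.{u}) : Prop :=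
  ∀ p : X, IsClosed ({p} : Set X) → ∃ a b, IsLocalRing.maximalIdeal (X.presheaf.stalk p) = Ideal.span {a, b}

variable {k : Type u} [Field k] [IsAlgClosed k] {X : Scheme.{u}} (f : X ⟶ Spec (CommRingCat.of k))
  [IsSeparated f] [LocallyOfFiniteType f]

omit [IsAlgClosed k] [IsSeparated f] in
lemma two_gen_chart (hX : TwoGen X) {B : Type u} [CommRing B] [IsNoetherianRing B]
    (j : Spec (CommRingCat.of B) ⟶ X) [IsOpenImmersion j] (f : X ⟶ Spec (CommRingCat.of k)) [LocallyOfFiniteType f]
    (m : Ideal B) (hm : m.IsMaximal) :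
    ∃ g₁ g₂ s, g₁ ∈ m ∧ g₂ ∈ m ∧ s ∉ m ∧ ∀ r ∈ m, s * r ∈ Ideal.span {g₁, g₂} := by
  haveI : JacobsonSpace X := LocallyOfFiniteType.jacobsonSpace f
  let p : PrimeSpectrum B := ⟨m, hm.isPrime⟩
  have hp : IsClosed ({p} : Set (PrimeSpectrum B)) := (PrimeSpectrum.isClosed_singleton_iff_isMaximal p).2 hm
  have hpX : IsClosed ({j p} : Set X) := by
    have : p ∈ j ⁻¹' closedPoints X := (j.isOpenEmbedding.preimage_closedPoints).symm ▸ hp
    exact this
  obtain ⟨a, b, hab⟩ := hX (j p) hpX
  haveI : m.IsPrime := hm.isPrime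
  let e : X.presheaf.stalk (j p) ≃+* Localization.AtPrime m :=
    (asIso (j.stalkMap p)).commRingCatIsoToRingEquiv.trans (Spec.stalkIso (CommRingCat.of B) p).commRingCatIsoToRingEquiv
  refine exists_two_gen_of_localization m (L := Localization.AtPrime m) (a := e a) (b := e b) ?_
  rw [← Set.image_pair, ← Ideal.map_span, ← hab]
  exact (IsLocalRing.map_ringEquiv_maximalIdeal e).symm

/-- An affine chart of `Hilb^n` around a point with a universal ideal. -/
theorem exists_tan_chart {n : ℕ} {H : Over (Spec (CommRingCat.of k))} [LocallyOfFiniteType H.hom]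
    (Z : HilbD.Obj f n H) (a : TP k k ⟶ H) {B : Type u} [CommRing B] [Algebra k B] [Algebra.FiniteType k B]
    (j : Spec (CommRingCat.of B) ⟶ X) [IsOpenImmersion j]
    (hw : j ≫ f = fB (R := k) (B := B) (𝟙 (Spec (CommRingCat.of k))) ≫ 𝟙 (Spec (CommRingCat.of k)))
    (hEj : Set.range ((pullObj f a Z).1.subschemeι ≫ pullback.fst f (TP k k).hom) ⊆ Set.range j) :
    ∃ (P : Type u) (_ : CommRing P) (_ : Algebra k P) (_ : IsNoetherianRing P) (g : TP k P ⟶ H)
      (_ : IsOpenImmersion g.left) (K : Ideal (P ⊗[k] B)) (_ : Module.Projective P ((P ⊗[k] B) ⧸ K))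
      (Z' : HilbD.Obj (fB (R := k) (B := B) (𝟙 (Spec (CommRingCat.of k)))) n (TA (𝟙 _) P))
      (χ : P →ₐ[k] k), famOf (𝟙 _) K = Z'.1 ∧ TPmap χ ≫ g = a ∧
        ∀ {A : Type u} [CommRing A] [Algebra k A] (ψ : P →ₐ[k] A),
          HilbD.pull f (TPmap ψ ≫ g) Z.1 = fam f j hw (K.map (bc ψ)) := by
  classical
  set h := a.left (IsLocalRing.closedPoint k) with hh
  haveI : IsNoetherianRing B := Algebra.FiniteType.isNoetherianRing k B
  -- the points whose family lies in the chart
  haveI := Z.2.1.1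
  let π := Z.1.subschemeι ≫ PicF.XTproj f H
  let bad : Set Z.1.subscheme := (Z.1.subschemeι ≫ pullback.fst f H.hom) ⁻¹' (Set.range j)ᶜ
  have hbad : IsClosed (π '' bad) := π.isClosedMap _ ((j.isOpenEmbedding.isOpen_range.isClosed_compl).preimage
    (Z.1.subschemeι ≫ pullback.fst f H.hom).continuous)
  have hhW : h ∉ π '' bad := by
    rintro ⟨z, hz, hπz⟩
    obtain ⟨v, hv'⟩ := exists_isPullback_pull f a Z.1
    have hv := hv'.paste_vert (isPullback_XTmap f a)
    obtain ⟨w, hw1, -⟩ := Scheme.Pullback.exists_preimage_pullback (f := π) (g := a.left) z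
      (IsLocalRing.closedPoint k) hπz
    let w' := hv.isoPullback.inv w
    have hvz : v w' = z := by
      rw [← Scheme.Hom.comp_apply, hv.isoPullback_inv_fst]
      exact hw1
    refine hz (hEj ⟨w', ?_⟩)
    have := fst_pull_ι f a Z.1 hv' w'
    simp only [Scheme.Hom.comp_apply] at this ⊢
    rw [← hvz]
    exact this
  obtain ⟨V, hV, hhV, hVW⟩ := exists_isAffineOpen_mem_and_subset (x := h) (U := ⟨_, hbad.isOpen_compl⟩) hhW
  let P := Γ(H.left, V)
  let φ := Spec.preimage (hV.fromSpec ≫ H.hom)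
  letI := φ.hom.toAlgebra
  have hP : Algebra.FiniteType k P := by
    rw [← RingHom.finiteType_algebraMap]
    show φ.hom.FiniteType
    rw [← HasRingHomProperty.Spec_iff (P := @LocallyOfFiniteType), Spec.map_preimage]
    infer_instance
  haveI : IsNoetherianRing P := Algebra.FiniteType.isNoetherianRing k P
  let g : TP k P ⟶ H := Over.homMk hV.fromSpec (by
    show _ = (Spec.map φ ≫ 𝟙 _) ≫ 𝟙 _
    rw [Category.comp_id, Category.comp_id, Spec.map_preimage])
  -- the family over the chart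
  obtain ⟨Z', hZ'⟩ := exists_eq_pushO f (fB (R := k) (B := B) (𝟙 _)) j (𝟙 _) hw (T := TA (𝟙 _) P) (pullObj f g Z) (by
    rintro _ ⟨z, rfl⟩
    rw [range_XOincl]
    obtain ⟨v, hv'⟩ := exists_isPullback_pull f g Z.1
    have hv := hv'.paste_vert (isPullback_XTmap f g)
    have e := fst_pull_ι f g Z.1 hv' z
    simp only [Scheme.Hom.comp_apply] at e
    show pullback.fst f _ ((pullObj f g Z).1.subschemeι z) ∈ Set.range j
    rw [show pullback.fst f _ ((pullObj f g Z).1.subschemeι z) = pullback.fst f H.hom (Z.1.subschemeι (v z)) from e]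
    by_contra hne
    refine hVW (show g.left ((HilbD.pull f g Z.1).subschemeι ≫ PicF.XTproj f (TP k P) |> (· z)) ∈ V from ?_)
      ⟨v z, hne, ?_⟩
    · exact hV.range_fromSpec.subset ⟨_, rfl⟩
    · rw [← Scheme.Hom.comp_apply]
      exact congr($(hv.w) z))
  obtain ⟨K, hK⟩ := exists_famOf (𝟙 _) Z'.1
  obtain ⟨f1, f2, -, -⟩ := (famOf_proj_iff (𝟙 _) n K).mp (hK ▸ Z'.2)
  haveI := f1; haveI := f2
  haveI : Module.Projective P ((P ⊗[k] B) ⧸ K) := by
    haveI : Module.FinitePresentation P ((P ⊗[k] B) ⧸ K) := Module.finitePresentation_of_finite _ _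
    exact Module.Flat.projective_of_finitePresentation
  -- pullbacks along test points
  have hpull : ∀ {A : Type u} [CommRing A] [Algebra k A] (ψ : P →ₐ[k] A),
      HilbD.pull f (TPmap ψ ≫ g) Z.1 = fam f j hw (K.map (bc ψ)) := fun ψ => by
    rw [H27HilbOps.pull_comp, show HilbD.pull f g Z.1 = (pullObj f g Z).1 from rfl, ← hZ',
      pull_pushO f (fB (R := k) (B := B) (𝟙 _)) j (𝟙 _) hw (TAmap (𝟙 _) ψ) Z', ← hK, pull_famOf]
    rfl
  -- the point in the chart
  obtain ⟨χ, hχ⟩ : ∃ χ : P →ₐ[k] k, TPmap χ ≫ g = a := by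
    have hr : Set.range a.left ⊆ Set.range hV.fromSpec := by
      rintro _ ⟨t, rfl⟩
      haveI : Subsingleton (TP k k).left := inferInstanceAs (Subsingleton (PrimeSpectrum k))
      rw [hV.range_fromSpec, Subsingleton.elim t (IsLocalRing.closedPoint k)]
      exact hhV
    let c := IsOpenImmersion.lift hV.fromSpec a.left hr
    obtain ⟨χ, hχ⟩ := exists_TAmap_eq (A := P) (A' := k) (𝟙 (Spec (CommRingCat.of k))) (Over.homMk c (by
      show c ≫ Spec.map φ ≫ 𝟙 _ = _
      rw [Category.comp_id, Spec.map_preimage, IsOpenImmersion.lift_fac_assoc]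
      exact (Over.w a).trans (Category.comp_id _)))
    refine ⟨χ, Over.OverMorphism.ext ?_⟩
    show (TAmap (𝟙 _) χ).left ≫ hV.fromSpec = _
    rw [hχ]
    exact IsOpenImmersion.lift_fac _ _ _
  haveI : IsOpenImmersion g.left := inferInstanceAs (IsOpenImmersion hV.fromSpec)
  exact ⟨P, inferInstance, φ.hom.toAlgebra, inferInstance, g, inferInstance, K, inferInstance, Z', χ, hK, hχ, hpull⟩

/-- The tangent space of `Hilb^n` at a rational point has dimension at most `2n`. -/
theorem spanFinrank_stalk_le (hX : TwoGen X) {n : ℕ}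
    (haff : ∀ x : Fin n → X, ∃ U : X.Opens, IsAffineOpen U ∧ ∀ i, x i ∈ U)
    {H : Over (Spec (CommRingCat.of k))} [LocallyOfFiniteType H.hom] (Z : HilbD.Obj f n H)
    (hZ : HilbD.IsUniversal f n H Z) (a : TP k k ⟶ H) :
    Module.finrank (IsLocalRing.ResidueField (H.left.presheaf.stalk (a.left (IsLocalRing.closedPoint k))))
      (IsLocalRing.CotangentSpace (H.left.presheaf.stalk (a.left (IsLocalRing.closedPoint k)))) ≤ 2 * n := by
  classical
  set h := a.left (IsLocalRing.closedPoint k) with hh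
  obtain ⟨B, _, _, _, j, _, hw, hEj⟩ := exists_chart f haff (encard_support f (pullObj f a Z))
  haveI : IsNoetherianRing B := Algebra.FiniteType.isNoetherianRing k B
  obtain ⟨P, _, _, _, g, _, K, _, Z', χ, hK, hχ, hpull⟩ := exists_tan_chart f Z a j hw hEj
  -- the ideal of the point
  let l := Algebra.TensorProduct.lid k B
  have hev : ∀ u, Tangent.ev χ u = l (bc χ u) := fun u => by
    induction u using TensorProduct.induction_on with
    | zero => simp
    | tmul p b => simp [l]
    | add x y hx hy => simp only [map_add, hx, hy]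
  let I : Ideal B := K.map (Tangent.ev χ)
  have hIK : I = (K.map (bc χ)).map (l : k ⊗[k] B →+* B) := by
    rw [Ideal.map_map]
    exact congrArg (fun ψ : P ⊗[k] B →+* B => Ideal.map ψ K) (RingHom.ext hev)
  obtain ⟨I', _, hn, hI'⟩ := exists_ideal f Z a j hw hEj
  have hI : (K.map (bc χ)) = ext k I' := by
    have hfam := (hpull χ).symm.trans ((congrArg (fun c => HilbD.pull f c Z.1) hχ).trans hI')
    refine famOf_injective (𝟙 (Spec (CommRingCat.of k))) ?_
    let e : ((k ⊗[k] B) ⧸ ext k I') ≃ₐ[k] k ⊗[k] (B ⧸ I') :=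
      (Ideal.quotientEquivAlgOfEq k (ker_qI k I').symm).trans
        (Ideal.quotientKerAlgEquivOfSurjective (qI_surjective k I'))
    haveI : Module.Finite k ((k ⊗[k] B) ⧸ ext k I') := Module.Finite.equiv e.toLinearEquiv.symm
    have hd' := deg_famOf (k := k) (ext k I') (d := n) ⟨inferInstance, inferInstance, by
      rw [e.toLinearEquiv.finrank_eq, (TensorProduct.lid k (B ⧸ I')).finrank_eq, hn]⟩
    have hd : Mor2.IsFinLocFreeOfDeg n ((famOf (𝟙 (Spec (CommRingCat.of k))) (K.map (bc χ))).subschemeι ≫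
        PicF.XTproj (fB (R := k) (B := B) (𝟙 _)) (TA (𝟙 _) k)) := by
      rw [← pull_famOf, hK]
      exact isFinLocFreeOfDeg_pull _ _ _ Z'.2
    have c1 := comap_pushO f (fB (R := k) (B := B) (𝟙 _)) j (𝟙 _) hw
      (⟨famOf (𝟙 _) (K.map (bc χ)), hd⟩ : HilbD.Obj _ n (TA (𝟙 _) k))
    have c2 := comap_pushO f (fB (R := k) (B := B) (𝟙 _)) j (𝟙 _) hw
      (⟨famOf (𝟙 _) (ext k I'), hd'⟩ : HilbD.Obj _ n (TA (𝟙 _) k))
    exact c1.symm.trans ((congrArg (fun J => J.comap (XOincl f (fB (R := k) (B := B) (𝟙 _)) j (𝟙 _) hw (TA (𝟙 _) k))) hfam).trans c2)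
  have hII : I = I' := by
    rw [hIK, hI]
    refine (Ideal.map_map _ _).trans ?_
    refine Eq.trans (congrArg (fun ψ : B →+* B => Ideal.map ψ I') (RingHom.ext fun b => ?_)) (Ideal.map_id I')
    show l ((1 : k) ⊗ₜ[k] b) = b
    simp [l]
  haveI : Module.Finite k (B ⧸ I) := hII ▸ inferInstance
  -- tangent vectors
  obtain ⟨hfin, hle⟩ := HomBound.finrank_hom_le (k := k) I fun m hm _ => two_gen_chart hX j f m hm
  haveI := hfin
  obtain ⟨hfinC, hC⟩ := Tangent.finrank_cotangent_le K (χ := χ) (I := I) rfl fun ψ ψ' e => by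
    have e' : TPmap ψ ≫ g = TPmap ψ' ≫ g :=
      (hZ _ ⟨HilbD.pull f (TPmap ψ ≫ g) Z.1, (pullObj f _ Z).2⟩).unique rfl
        (by show HilbD.pull f (TPmap ψ' ≫ g) Z.1 = HilbD.pull f (TPmap ψ ≫ g) Z.1; rw [hpull, hpull, e])
    have e'' : Spec.map (ofHom ψ.toRingHom) ≫ g.left = Spec.map (ofHom ψ'.toRingHom) ≫ g.left :=
      congrArg CommaMorphism.left e'
    exact AlgHom.coe_ringHom_injective (congrArg CommRingCat.Hom.hom (Spec.map_injective ((cancel_mono _).1 e'')))
  have hC' : Module.finrank k (RingHom.ker χ).Cotangent ≤ 2 * n := by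
    refine hC.trans (hle.trans ?_)
    rw [hII, hn]
  -- compare with the stalk
  set m := RingHom.ker χ with hm
  haveI hmax : m.IsMaximal := RingHom.ker_isMaximal_of_surjective χ fun c => ⟨algebraMap k P c, χ.commutes c⟩
  have hbij : Function.Bijective (algebraMap k (P ⧸ m)) := by
    refine ⟨(algebraMap k (P ⧸ m)).injective, fun q => ?_⟩
    obtain ⟨p, rfl⟩ := Ideal.Quotient.mk_surjective q
    exact ⟨χ p, (Ideal.Quotient.mk_eq_mk_iff_sub_mem _ _).2 (by simp [m, RingHom.mem_ker])⟩
  have hfr : Module.finrank (P ⧸ m) m.Cotangent = Module.finrank k m.Cotangent := by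
    refine (H25SmVar.finrank_eq_of_equiv_equiv (algebraMap k (P ⧸ m)) (AddEquiv.refl _) hbij fun r c => ?_).symm
    show r • c = algebraMap k (P ⧸ m) r • c
    obtain ⟨z, rfl⟩ := Ideal.toCotangent_surjective _ c
    rw [Tangent.smul_toCotangent, map_smul, IsScalarTower.algebraMap_apply k P (P ⧸ m)]
    rfl
  let q : PrimeSpectrum P := ⟨m, hmax.isPrime⟩
  have hq : g.left q = h := by
    have e1 : (TPmap χ).left (IsLocalRing.closedPoint k) = q := by
      apply PrimeSpectrum.ext
      show (IsLocalRing.maximalIdeal k).comap χ.toRingHom = RingHom.ker χ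
      rw [IsLocalRing.maximalIdeal_eq_bot]
      rfl
    rw [hh, ← hχ]
    show _ = g.left ((TPmap χ).left (IsLocalRing.closedPoint k))
    rw [e1]
  let e : H.left.presheaf.stalk h ≃+* Localization.AtPrime m :=
    (H.left.presheaf.stalkCongr (.of_eq hq.symm)).commRingCatIsoToRingEquiv.trans
      ((asIso (Scheme.Hom.stalkMap g.left q)).commRingCatIsoToRingEquiv.trans (Spec.stalkIso (CommRingCat.of P) q).commRingCatIsoToRingEquiv)
  have he : Module.finrank (IsLocalRing.ResidueField (H.left.presheaf.stalk h))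
      (IsLocalRing.CotangentSpace (H.left.presheaf.stalk h)) =
      Module.finrank (IsLocalRing.ResidueField (Localization.AtPrime m))
        (IsLocalRing.CotangentSpace (Localization.AtPrime m)) := by
    haveI : IsNoetherianRing (H.left.presheaf.stalk h) := isNoetherianRing_of_ringEquiv _ e.symm
    rw [← IsLocalRing.spanFinrank_maximalIdeal_eq_finrank_cotangentSpace,
      ← IsLocalRing.spanFinrank_maximalIdeal_eq_finrank_cotangentSpace,
      ← IsLocalRing.map_ringEquiv_maximalIdeal e, Ideal.spanFinrank_map_eq_of_ringEquiv]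
  rw [he, H25SmVar.finrank_cotangentSpace_localization, hfr]
  exact hC'

end Groth.Agent.H27Fogarty
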