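import Groth.Agent.H27Fogarty.Base
import Groth.Agent.H27Fogarty.TanChart
import Groth.Agent.H27Fogarty.PairsDim
import Groth.Agent.H8Props.StalkLocal
import Groth.Agent.H8Props.FieldDimFormula
import Groth.Agent.H05EGA4.Regular
import Groth.Agent.H4Depth.CM
import Mathlib

/-! # Fogarty: `Hilb^n` of a regular surface is regular of dimension `2n` -/

set_option autoImplicit false
set_option linter.style.haveILetI false
set_option backward.isDefEq.respectTransparency false
set_option backward.isDefEq.respectTransparency.types false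

universe u

open CategoryTheory CategoryTheory.Limits AlgebraicGeometry TopologicalSpace
open Order (coheight krullDim le_krullDim_iff)

namespace Groth.Agent.H27Fogarty

open H27HilbOps Groth.Agent.H8Props.FieldDim

/-- A closed point has dimension zero. -/
lemma cdim_eq_zero {Y : Type*} [TopologicalSpace Y] {h : Y} (hh : IsClosed ({h} : Set Y)) : cdim h = 0 := by
  rw [cdim, hh.closure_eq]
  haveI : Subsingleton (IrreducibleCloseds ({h} : Set Y)) := ⟨fun a b => by
    ext1
    exact (Set.eq_univ_of_forall fun z => by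
        obtain ⟨w, hw⟩ := a.2.1; rwa [Subsingleton.elim z w]).trans
      (Set.eq_univ_of_forall fun z => by
        obtain ⟨w, hw⟩ := b.2.1; rwa [Subsingleton.elim z w]).symm⟩
  haveI : Nonempty (IrreducibleCloseds ({h} : Set Y)) :=
    ⟨⟨Set.univ, ⟨⟨⟨h, rfl⟩, trivial⟩, Set.subsingleton_univ.isPreirreducible⟩, isClosed_univ⟩⟩
  exact Order.krullDim_eq_zero

/-- Two maximal generisations of a point with a domain as local ring agree. -/
lemma generic_unique_of_isDomain {Y : Scheme.{u}} {g g' y : Y} [IsDomain (Y.presheaf.stalk y)]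
    (hg : g ∈ genericPoints Y) (hg' : g' ∈ genericPoints Y) (h : g ⤳ y) (h' : g' ⤳ y) : g = g' := by
  let b : (Spec (Y.presheaf.stalk y) : Scheme.{u}) := ⟨⊥, Ideal.isPrime_bot⟩
  have key : ∀ c ∈ genericPoints Y, c ⤳ y → Y.fromSpecStalk y b = c := fun c hc hcy => by
    obtain ⟨q, hq⟩ : c ∈ Set.range (Y.fromSpecStalk y) := by rw [Scheme.range_fromSpecStalk]; exact hcy
    have hbq : b ⤳ q := (PrimeSpectrum.le_iff_specializes b q).1 (bot_le : (⊥ : Ideal _) ≤ q.asIdeal)
    exact H17.mem_genericPoints_iff.1 hc _ (hq ▸ hbq.map (Y.fromSpecStalk y).continuous)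
  rw [← key g hg h, ← key g' hg' h']

/-- In dimension two there are chains of length two ending outside any finite set. -/
theorem exists_chain_outside {Y : Scheme.{u}} [JacobsonSpace Y] (hdim : 2 ≤ topologicalKrullDim Y)
    (E : Set Y) (hE : IsClosed E) (hEf : E.Finite) :
    ∃ x₂ x₁ p : Y, p ∉ E ∧ x₂ ⤳ x₁ ∧ x₂ ≠ x₁ ∧ x₁ ⤳ p ∧ x₁ ≠ p := by
  have hd : (2 : ℕ) ≤ krullDim Y := hdim.trans_eq (H17.topologicalKrullDim_eq_krullDim_specialization Y)
  obtain ⟨l, hl⟩ := le_krullDim_iff.1 hd
  let x₀ := l ⟨0, by omega⟩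
  let x₁ := l ⟨1, by omega⟩
  let x₂ := l ⟨2, by omega⟩
  have h10 : x₀ < x₁ := l.strictMono (Fin.mk_lt_mk.2 (by omega))
  have h21 : x₁ < x₂ := l.strictMono (Fin.mk_lt_mk.2 (by omega))
  have hx1 : ¬ IsClosed ({x₁} : Set Y) := fun hc => by
    have h1 : x₁ ⤳ x₀ := h10.le
    exact h10.ne (Set.mem_singleton_iff.1 (h1.mem_closed hc rfl))
  have hx1E : x₁ ∉ E := fun hE' => by
    refine hx1 ?_
    have hfc : IsClosed (E ∩ closedPoints Y) := by
      rw [← Set.biUnion_of_singleton (E ∩ closedPoints Y)]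
      exact (hEf.inter_of_left _).isClosed_biUnion fun z hz => hz.2
    have := JacobsonSpace.closure_inter_closedPoints_eq_closure hE.isLocallyClosed
    rw [hfc.closure_eq, hE.closure_eq] at this
    exact (this.symm ▸ hE' : x₁ ∈ E ∩ closedPoints Y).2
  obtain ⟨p, ⟨hp1, hpE⟩, hpc⟩ := nonempty_inter_closedPoints (Z := closure {x₁} ∩ Eᶜ)
    ⟨x₁, subset_closure rfl, hx1E⟩ (isClosed_closure.isLocallyClosed.inter hE.isOpen_compl.isLocallyClosed)
  refine ⟨x₂, x₁, p, hpE, h21.le, fun e => h21.ne e.symm, specializes_iff_mem_closure.2 hp1, fun e => hx1 ?_⟩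
  rw [e]; exact hpc

variable {k : Type u} [Field k] [IsAlgClosed k] {X : Scheme.{u}} {f : X ⟶ Spec (CommRingCat.of k)}
  [IsSeparated f] [LocallyOfFiniteType f] [ConnectedSpace X]

/-- Some closed point of `Hilb^n` has dimension at least `2n`. -/
theorem exists_big (hqp : RelProj.IsHQuasiProjective f) (hdim : 2 ≤ topologicalKrullDim X)
    (n : ℕ) (H : Over (Spec (CommRingCat.of k))) (Z : HilbD.Obj f n H) (hZ : HilbD.IsUniversal f n H Z) :
    ∃ h : H.left, IsClosed ({h} : Set H.left) ∧ (2 * n : ℕ) ≤ coheight h := by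
  have hpos : 0 < topologicalKrullDim X := lt_of_lt_of_le (by norm_num) hdim
  have hlft : ∀ (n : ℕ) (H : Over (Spec (CommRingCat.of k))) (Z : HilbD.Obj f n H),
      HilbD.IsUniversal f n H Z → LocallyOfFiniteType H.hom := fun n H Z hZ =>
    locallyOfFiniteType f (fun x => exists_affine_of_isHQuasiProjective hqp x) H Z hZ
  induction n generalizing H with
  | zero =>
    haveI := hlft _ _ _ hZ
    haveI := connectedSpace_hilbert hqp hpos 0 H Z hZ
    haveI : JacobsonSpace H.left := LocallyOfFiniteType.jacobsonSpace H.hom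
    obtain ⟨h, -, hh⟩ := nonempty_inter_closedPoints (X := H.left) Set.univ_nonempty isClosed_univ.isLocallyClosed
    exact ⟨h, hh, by simp⟩
  | succ n ih =>
    obtain ⟨H₀, Z₀, hZ₀⟩ : HilbD.Representable f n :=
      Groth.Agent.S1166.result f n fun _ x _ => exists_affine_of_isHQuasiProjective hqp x
    obtain ⟨h, hh, hle⟩ := ih H₀ Z₀ hZ₀
    haveI := hlft _ _ _ hZ
    haveI := hlft _ _ _ hZ₀
    haveI : JacobsonSpace X := LocallyOfFiniteType.jacobsonSpace f
    exact exists_coheight_succ f (exists_chain_outside hdim) Z₀ hZ₀ Z hZ hh hle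

/-- Fogarty's theorem. -/
theorem fogarty (hqp : RelProj.IsHQuasiProjective f) (hX : TwoGen X) (hdim : 2 ≤ topologicalKrullDim X)
    (n : ℕ) (H : Over (Spec (CommRingCat.of k))) (Z : HilbD.Obj f n H) (hZ : HilbD.IsUniversal f n H Z) :
    ConnectedSpace H.left ∧ (∀ h : H.left, IsRegularLocalRing (H.left.presheaf.stalk h)) ∧
      topologicalKrullDim H.left = (2 * n : ℕ) := by
  have hpos : 0 < topologicalKrullDim X := lt_of_lt_of_le (by norm_num) hdim
  haveI hconn := connectedSpace_hilbert hqp hpos n H Z hZ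
  haveI : LocallyOfFiniteType H.hom :=
    locallyOfFiniteType f (fun x => exists_affine_of_isHQuasiProjective hqp x) H Z hZ
  haveI : IsLocallyNoetherian H.left := LocallyOfFiniteType.isLocallyNoetherian H.hom
  haveI : JacobsonSpace H.left := LocallyOfFiniteType.jacobsonSpace H.hom
  -- upper bound
  have hup : ∀ h : H.left, IsClosed ({h} : Set H.left) →
      Module.finrank (IsLocalRing.ResidueField (H.left.presheaf.stalk h))
        (IsLocalRing.CotangentSpace (H.left.presheaf.stalk h)) ≤ 2 * n := fun h hh => by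
    obtain ⟨a, rfl⟩ := exists_point hh
    exact spanFinrank_stalk_le f hX (fun x => exists_affine_of_isHQuasiProjective hqp x) Z hZ a
  have hdimle : ∀ h : H.left, IsClosed ({h} : Set H.left) →
      ringKrullDim (H.left.presheaf.stalk h) ≤ (2 * n : ℕ) := fun h hh => by
    refine (ringKrullDim_le_spanFinrank_maximalIdeal _).trans ?_
    rw [IsLocalRing.spanFinrank_maximalIdeal_eq_finrank_cotangentSpace]
    exact_mod_cast hup h hh
  have hreg : ∀ h : H.left, IsClosed ({h} : Set H.left) →
      ((2 * n : ℕ) : WithBot ℕ∞) ≤ ringKrullDim (H.left.presheaf.stalk h) →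
      IsRegularLocalRing (H.left.presheaf.stalk h) := fun h hh hge => by
    refine IsRegularLocalRing.of_spanFinrank_maximalIdeal_le _ (le_trans ?_ hge)
    rw [IsLocalRing.spanFinrank_maximalIdeal_eq_finrank_cotangentSpace]
    exact_mod_cast hup h hh
  have hloc : ∀ h : H.left, IsClosed ({h} : Set H.left) →
      ringKrullDim (H.left.presheaf.stalk h) = ⨆ η : {η : H.left // η ⤳ h}, cdim η.1 := fun h hh => by
    rw [← localDim_eq H.hom h, localDim_eq_stalk_add_cdim H.hom h, cdim_eq_zero hh, add_zero]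
  have hcmono : ∀ η η' : H.left, η ⤳ η' → cdim η' ≤ cdim η := fun η η' hs =>
    dim_mono hs.closure_subset
  obtain ⟨h₀, hh₀, hbig⟩ := exists_big hqp hdim n H Z hZ
  have hbig' : ((2 * n : ℕ) : WithBot ℕ∞) ≤ ringKrullDim (H.left.presheaf.stalk h₀) := by
    rw [AlgebraicGeometry.ringKrullDim_stalk_eq_coheight]
    exact WithBot.coe_le_coe.2 hbig
  haveI := hreg h₀ hh₀ hbig'
  haveI := H4Depth.isDomain_of_isRegularLocalRing (H.left.presheaf.stalk h₀)
  obtain ⟨η₀, hη₀, hη₀h⟩ := H17.exists_genericPoint_specializes h₀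
  have hη : ((2 * n : ℕ) : WithBot ℕ∞) ≤ cdim η₀ := by
    refine hbig'.trans ((hloc h₀ hh₀).trans_le (iSup_le fun η => ?_))
    obtain ⟨ζ, hζ, hζη⟩ := H17.exists_genericPoint_specializes η.1
    rw [generic_unique_of_isDomain (y := h₀) hη₀ hζ hη₀h (hζη.trans η.2)]
    exact hcmono _ _ hζη
  have hC : ∀ h : H.left, IsClosed ({h} : Set H.left) → η₀ ⤳ h →
      IsRegularLocalRing (H.left.presheaf.stalk h) := fun h hh hs => by
    refine hreg h hh (hη.trans ?_)
    rw [hloc h hh]
    exact le_iSup (fun η : {η : H.left // η ⤳ h} => cdim η.1) ⟨η₀, hs⟩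
  -- the component is open
  have hopen : IsOpen (closure ({η₀} : Set H.left)) := by
    rw [isOpen_iff_forall_mem_open]
    intro z hz
    obtain ⟨p, hp, hzp⟩ := exists_closed_specializes z
    have hs : η₀ ⤳ p := (specializes_iff_mem_closure.2 hz).trans hzp
    haveI := hC p hp hs
    haveI := H4Depth.isDomain_of_isRegularLocalRing (H.left.presheaf.stalk p)
    obtain ⟨W, hW, hpW, -⟩ := exists_isAffineOpen_mem_and_subset (x := p) (U := (⊤ : H.left.Opens)) trivial
    obtain ⟨U, -, hpU, -, hU⟩ := H17.exists_affine_nhd_forall_generic_specializes p W hpW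
      (H17.finite_genericPoints_inter_affine W hW)
    refine ⟨U, fun w hw => ?_, U.isOpen, hzp.mem_open U.isOpen hpU⟩
    obtain ⟨ζ, hζ, hζw⟩ := H17.exists_genericPoint_specializes w
    rw [generic_unique_of_isDomain (y := p) hη₀ hζ hs (hU w hw ζ hζ hζw)]
    exact specializes_iff_mem_closure.1 hζw
  have huniv : closure ({η₀} : Set H.left) = Set.univ :=
    (isClopen_iff.1 ⟨isClosed_closure, hopen⟩).resolve_left
      (Set.Nonempty.ne_empty ⟨η₀, subset_closure rfl⟩)
  have hspec : ∀ h : H.left, η₀ ⤳ h := fun h => specializes_iff_mem_closure.2 (huniv ▸ Set.mem_univ h)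
  refine ⟨hconn, fun h => ?_, ?_⟩
  · obtain ⟨p, hp, hhp⟩ := exists_closed_specializes h
    haveI := hC p hp (hspec p)
    obtain ⟨q, hq, ⟨e⟩⟩ := H8Props.StalkLocal.exists_prime_ringEquiv_of_specializes hhp
    haveI := H05EGA4.isRegularLocalRing_localization (H.left.presheaf.stalk p) q
    exact IsRegularLocalRing.of_ringEquiv e
  · have hd : topologicalKrullDim H.left = cdim η₀ := by
      rw [cdim, huniv]
      exact (IsHomeomorph.topologicalKrullDim_eq _ (Homeomorph.Set.univ H.left).isHomeomorph).symm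
    rw [hd]
    refine le_antisymm ((le_iSup (fun η : {η : H.left // η ⤳ h₀} => cdim η.1) ⟨η₀, hη₀h⟩).trans ?_) hη
    rw [← hloc h₀ hh₀]
    exact hdimle h₀ hh₀

/-- Two generators from regularity in dimension at most two. -/
theorem twoGen_of_regular {Y : Scheme.{u}} (hreg : ∀ y : Y, IsRegularLocalRing (Y.presheaf.stalk y))
    (hdim : topologicalKrullDim Y ≤ 2) : TwoGen Y := by
  intro p _
  classical
  haveI := hreg p
  have h1 : ((IsLocalRing.maximalIdeal (Y.presheaf.stalk p)).spanFinrank : WithBot ℕ∞) ≤ (2 : ℕ) := by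
    rw [(isRegularLocalRing_iff _).1 (hreg p), AlgebraicGeometry.ringKrullDim_stalk_eq_coheight]
    refine le_trans ?_ hdim
    rw [H17.topologicalKrullDim_eq_krullDim_specialization]
    exact Order.coheight_le_krullDim p
  have h2 : (IsLocalRing.maximalIdeal (Y.presheaf.stalk p)).spanFinrank ≤ 2 := by exact_mod_cast h1
  obtain ⟨s, hs, hspan⟩ := Submodule.FG.exists_span_finset_card_eq_spanFinrank
    (IsLocalRing.maximalIdeal (Y.presheaf.stalk p)).fg_of_isNoetherianRing
  have key : ∃ a b, (Submodule.span _ (s : Set (Y.presheaf.stalk p)) : Ideal _) = Ideal.span {a, b} := by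
    obtain h0 | h0 | h0 : s.card = 0 ∨ s.card = 1 ∨ s.card = 2 := by omega
    · rw [Finset.card_eq_zero] at h0
      exact ⟨0, 0, by simp [h0]⟩
    · obtain ⟨a, rfl⟩ := Finset.card_eq_one.1 h0
      exact ⟨a, a, by simp⟩
    · obtain ⟨a, b, -, rfl⟩ := Finset.card_eq_two.1 h0
      exact ⟨a, b, by simp⟩
  obtain ⟨a, b, hab⟩ := key
  exact ⟨a, b, hspan.symm.trans hab⟩

end Groth.Agent.H27Fogarty
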